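import Mathlib

/-! Element orders in `PSL_n` over a finite field, and in direct powers. -/

set_option autoImplicit false

namespace Cfsg.Agent.KnownSimple.Spectrum

open Matrix Polynomial Module

universe u

theorem exists_orderOf_of_dvd {G : Type*} [Group G] [Finite G] {m : ℕ} (g : G)
    (h : m ∣ orderOf g) : ∃ x : G, orderOf x = m :=
  ⟨g ^ (orderOf g / m), orderOf_pow_orderOf_div (orderOf_pos g).ne' h⟩

theorem exists_max_pPart (G : Type*) [Group G] [Finite G] (p : ℕ) :
    ∃ w : G, ∀ y : G, p ^ (orderOf y).factorization p ∣ orderOf w := by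
  obtain ⟨w, hw⟩ := Finite.exists_max (fun y : G => (orderOf y).factorization p)
  exact ⟨w, fun y => (pow_dvd_pow p (hw y)).trans (Nat.ordProj_dvd _ _)⟩

theorem dvd_lcm_of_dvd_pow_mul {p M o N W : ℕ} (hp : p.Prime) (ho : o ≠ 0) (h : o ∣ p ^ M * N)
    (hW : p ^ o.factorization p ∣ W) : o ∣ Nat.lcm N W := by
  have h1 : ordCompl[p] o ∣ N :=
    (((Nat.coprime_ordCompl hp ho).symm).pow_right M).dvd_of_dvd_mul_left
      ((Nat.ordCompl_dvd o p).trans h)
  have h2 := Nat.ordProj_mul_ordCompl_eq_self o p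
  rw [← h2]
  exact ((Nat.coprime_ordCompl hp ho).pow_left _).mul_dvd_of_dvd_of_dvd
    (hW.trans (Nat.dvd_lcm_right _ _)) (h1.trans (Nat.dvd_lcm_left _ _))

section PSL

variable {F : Type u} [Field F] {n : ℕ}

theorem mk_eq_one_iff (g : SpecialLinearGroup (Fin n) F) :
    (QuotientGroup.mk g : ProjectiveSpecialLinearGroup (Fin n) F) = 1 ↔
      ∃ c : F, (g : Matrix (Fin n) (Fin n) F) = Matrix.scalar (Fin n) c := by
  rw [QuotientGroup.eq_one_iff, Matrix.SpecialLinearGroup.mem_center_iff]
  constructor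
  · rintro ⟨c, _, hc⟩
    exact ⟨c, hc.symm⟩
  · rintro ⟨c, hc⟩
    refine ⟨c, ?_, hc.symm⟩
    have h := congrArg Matrix.det hc
    rw [g.prop] at h
    simpa using h.symm

theorem mk_pow_eq_one_iff (g : SpecialLinearGroup (Fin n) F) (k : ℕ) :
    (QuotientGroup.mk g : ProjectiveSpecialLinearGroup (Fin n) F) ^ k = 1 ↔
      ∃ c : F, (g : Matrix (Fin n) (Fin n) F) ^ k = Matrix.scalar (Fin n) c := by
  rw [← QuotientGroup.mk_pow, mk_eq_one_iff]
  rfl

theorem aeval_pow_card [Fintype F] {A : Type*} [Semiring A] [Algebra F A] (f : F[X]) (a : A)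
    (M : ℕ) : aeval (a ^ Fintype.card F ^ M) f = (aeval a f) ^ Fintype.card F ^ M := by
  induction M generalizing a with
  | zero => simp
  | succ M ih =>
    rw [pow_succ', pow_mul, ih, ← expand_aeval, FiniteField.expand_card, map_pow, ← pow_mul]

/-- Either `F[g]` has an idempotent different from `0` and `1`, or it is local. -/
theorem split_or_local (g : SpecialLinearGroup (Fin n) F) (hn : 1 ≤ n) :
    (∃ e : Matrix (Fin n) (Fin n) F, e * e = e ∧ e ≠ 0 ∧ e ≠ 1 ∧
        Commute e (g : Matrix (Fin n) (Fin n) F)) ∨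
      ∃ f : F[X], Irreducible f ∧ ∃ j : ℕ, (aeval (g : Matrix (Fin n) (Fin n) F) f) ^ j = 0 := by
  classical
  have : Nonempty (Fin n) := ⟨⟨0, hn⟩⟩
  set A := (g : Matrix (Fin n) (Fin n) F) with hA
  have hint : IsIntegral F A := Algebra.IsIntegral.isIntegral A
  have hne : minpoly F A ≠ 0 := minpoly.ne_zero hint
  have hdeg : 0 < (minpoly F A).natDegree := minpoly.natDegree_pos hint
  obtain ⟨f, hf, hfd⟩ := Polynomial.exists_irreducible_of_natDegree_pos hdeg
  obtain ⟨j, r, hr, heq⟩ := WfDvdMonoid.max_power_factor' hne hf.not_isUnit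
  by_cases hru : IsUnit r
  · refine Or.inr ⟨f, hf, j, ?_⟩
    obtain ⟨s, hs⟩ := hru.exists_right_inv
    have h0 : aeval A (f ^ j) * aeval A r = 0 := by
      rw [← map_mul, ← heq, minpoly.aeval]
    have h1 : aeval A r * aeval A s = 1 := by rw [← map_mul, hs, map_one]
    calc (aeval A f) ^ j = aeval A (f ^ j) * (aeval A r * aeval A s) := by rw [h1, mul_one, map_pow]
      _ = 0 := by rw [← mul_assoc, h0, zero_mul]
  · have hj : j ≠ 0 := by
      rintro rfl
      rw [pow_zero, one_mul] at heq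
      exact hr (heq ▸ hfd)
    have hco : IsCoprime (f ^ j) r := ((hf.coprime_iff_not_dvd).2 hr).pow_left
    obtain ⟨u, v, huv⟩ := hco
    have hsum : aeval A (u * f ^ j) + aeval A (v * r) = 1 := by rw [← map_add, huv, map_one]
    have hprod : aeval A (u * f ^ j) * aeval A (v * r) = 0 := by
      rw [← map_mul, show u * f ^ j * (v * r) = (u * v) * (f ^ j * r) by ring, ← heq, map_mul,
        minpoly.aeval, mul_zero]
    have hr0 : r ≠ 0 := fun h => hne (by rw [heq, h, mul_zero])
    refine Or.inl ⟨aeval A (u * f ^ j), ?_, ?_, ?_, ?_⟩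
    · conv_rhs => rw [← mul_one (aeval A (u * f ^ j)), ← hsum, mul_add, hprod, add_zero]
    · intro he
      have h1 : aeval A (f ^ j) = 0 := by
        have h0 : aeval A (f ^ j) * aeval A r = 0 := by rw [← map_mul, ← heq, minpoly.aeval]
        rw [he, zero_add] at hsum
        calc aeval A (f ^ j) = aeval A (f ^ j) * aeval A (v * r) := by rw [hsum, mul_one]
          _ = 0 := by rw [mul_comm v r, map_mul, ← mul_assoc, h0, zero_mul]
      have hle := Polynomial.natDegree_le_of_dvd (minpoly.dvd F A h1) (pow_ne_zero _ hf.ne_zero)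
      rw [heq, Polynomial.natDegree_mul (pow_ne_zero _ hf.ne_zero) hr0] at hle
      have : 0 < r.natDegree :=
        Polynomial.natDegree_pos_iff_degree_pos.2 (Polynomial.degree_pos_of_ne_zero_of_nonunit hr0 hru)
      omega
    · intro he
      have h2 : aeval A (v * r) = 0 := by rw [he] at hsum; simpa using hsum
      have h0 : aeval A r = 0 := by
        have h0 : aeval A (f ^ j) * aeval A r = 0 := by rw [← map_mul, ← heq, minpoly.aeval]
        calc aeval A r = aeval A (u * f ^ j) * aeval A r := by rw [he, one_mul]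
          _ = 0 := by rw [map_mul, mul_assoc, h0, mul_zero]
      have hle := Polynomial.natDegree_le_of_dvd (minpoly.dvd F A h0) hr0
      rw [heq, Polynomial.natDegree_mul (pow_ne_zero _ hf.ne_zero) hr0, Polynomial.natDegree_pow] at hle
      have : 0 < j * f.natDegree := Nat.mul_pos (Nat.pos_of_ne_zero hj) hf.natDegree_pos
      omega
    · exact ((Commute.all (u * f ^ j) X).map (aeval A).toRingHom).trans (by simp) |> fun h => by
        simpa [Commute, SemiconjBy] using h

/-- An element commuting with `g` of order `r`, when `F[g]` is not local. -/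
theorem exists_commute_orderOf [Fintype F] {r : ℕ} (hr : r.Prime) (hrq : r ∣ Fintype.card F - 1)
    (hrn : ¬ r ∣ n) (g : SpecialLinearGroup (Fin n) F) (e : Matrix (Fin n) (Fin n) F)
    (he : e * e = e) (he0 : e ≠ 0) (he1 : e ≠ 1) (hc : Commute e (g : Matrix (Fin n) (Fin n) F)) :
    ∃ h : ProjectiveSpecialLinearGroup (Fin n) F, orderOf h = r ∧
      Commute (QuotientGroup.mk g : ProjectiveSpecialLinearGroup (Fin n) F) h := by
  classical
  have : Fact r.Prime := ⟨hr⟩
  obtain ⟨lam, hlam⟩ : ∃ x : Fˣ, orderOf x = r := by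
    refine exists_prime_orderOf_dvd_card' r ?_
    rw [Nat.card_eq_fintype_card, Fintype.card_units]
    exact hrq
  let φ : F →* Matrix (Fin n) (Fin n) F :=
    { toFun := fun a => a • e + (1 - e)
      map_one' := by simp
      map_mul' := fun a b => by
        simp only [add_mul, mul_add, he, sub_mul, mul_sub, one_mul, mul_one,
          smul_mul_assoc, mul_smul_comm, smul_sub, smul_add]
        module }
  have hφ : ∀ a : F, Commute (φ a) (g : Matrix (Fin n) (Fin n) F) := fun a =>
    (hc.smul_left a).add_left ((Commute.one_left _).sub_left hc)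
  set μ := (φ lam).det with hμ
  have hμr : μ ^ r = 1 := by
    rw [hμ, ← det_pow, ← map_pow, ← Units.val_pow_eq_pow_val, ← hlam, pow_orderOf_eq_one]
    simp
  have hμ0 : μ ≠ 0 := fun h => by rw [h, zero_pow hr.ne_zero] at hμr; exact zero_ne_one hμr
  let h : SpecialLinearGroup (Fin n) F := ⟨μ⁻¹ • (φ lam) ^ n, by
    rw [det_smul, det_pow, ← hμ, Fintype.card_fin, ← mul_pow, inv_mul_cancel₀ hμ0, one_pow]⟩
  refine ⟨QuotientGroup.mk h, ?_, ?_⟩
  · refine orderOf_eq_prime ?_ ?_
    · rw [mk_pow_eq_one_iff]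
      refine ⟨1, ?_⟩
      change (μ⁻¹ • (φ lam) ^ n) ^ r = _
      rw [_root_.smul_pow, ← pow_mul, mul_comm n r, pow_mul, ← map_pow, ← Units.val_pow_eq_pow_val,
        ← hlam, pow_orderOf_eq_one, Units.val_one, map_one, one_pow, hlam, inv_pow, hμr]
      simp
    · intro h1
      rw [mk_eq_one_iff] at h1
      obtain ⟨c, hc'⟩ := h1
      have h2 : μ⁻¹ • (φ ((lam : F) ^ n)) = c • (1 : Matrix (Fin n) (Fin n) F) := by
        rw [map_pow]
        exact hc'.trans (by rw [Matrix.scalar_apply, smul_one_eq_diagonal])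
      have h3 : (μ⁻¹ * (lam : F) ^ n) • e = c • e := by
        have := congrArg (· * e) h2
        simpa [φ, smul_mul_assoc, add_mul, sub_mul, he, smul_smul] using this
      have h4 : μ⁻¹ • (1 - e) = c • (1 - e) := by
        have := congrArg (· * (1 - e)) h2
        simpa [φ, smul_mul_assoc, add_mul, sub_mul, mul_sub, he, smul_smul, smul_sub] using this
      have h5 := smul_left_injective F he0 h3
      have h6 := smul_left_injective F (sub_ne_zero.2 (Ne.symm he1)) h4
      have h7 : (lam : F) ^ n = 1 := by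
        have := h5.trans h6.symm
        exact mul_left_cancel₀ (inv_ne_zero hμ0) (this.trans (mul_one _).symm)
      apply hrn
      rw [← hlam, orderOf_dvd_iff_pow_eq_one]
      exact Units.ext (by simpa using h7)
  · refine Commute.map ?_ (QuotientGroup.mk' (Subgroup.center (SpecialLinearGroup (Fin n) F)))
    apply Subtype.ext
    exact (((hφ lam).pow_left n).smul_left μ⁻¹).symm.eq

end PSL

theorem charP_of_card {F : Type*} [Field F] [Fintype F] {p a : ℕ} (hp : p.Prime)
    (h : Fintype.card F = p ^ a) : CharP F p :=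
  have : Fact p.Prime := ⟨hp⟩
  charP_of_card_eq_prime_pow h

section Singer

variable {F : Type u} [Field F] [Fintype F] {n : ℕ}

/-- There is an element (a Singer cycle) whose order is a multiple of the `p'`-part of the order of
every element `g` with `F[g]` local. -/
theorem exists_singer {p : ℕ} (hp : p.Prime) [CharP F p] (hn : 1 ≤ n) :
    ∃ S : ProjectiveSpecialLinearGroup (Fin n) F,
      ∀ (g : SpecialLinearGroup (Fin n) F) (f : F[X]) (j : ℕ), Irreducible f →
        (aeval (g : Matrix (Fin n) (Fin n) F) f) ^ j = 0 →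
        orderOf (QuotientGroup.mk g : ProjectiveSpecialLinearGroup (Fin n) F) ∣
          Fintype.card F ^ j * orderOf S := by
  classical
  have : Fact p.Prime := ⟨hp⟩
  have : NeZero n := ⟨by omega⟩
  let L := FiniteField.Extension F p n
  have hL : finrank F L = n := FiniteField.finrank_extension F p n
  let b₀ : Basis (Fin n) F L := Module.finBasisOfFinrankEq F L hL
  let A : Subgroup Lˣ := (Units.map (Algebra.norm F : L →* F)).ker
  obtain ⟨σ, hσ⟩ := IsCyclic.exists_generator (α := A)
  let S : SpecialLinearGroup (Fin n) F := ⟨Algebra.leftMulMatrix b₀ ((σ : Lˣ) : L), by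
    rw [← Algebra.norm_eq_matrix_det]
    exact congrArg (fun u : Fˣ => (u : F)) σ.2⟩
  refine ⟨QuotientGroup.mk S, fun g f j hf hg => ?_⟩
  set M := Fintype.card F ^ j with hM
  set s := g ^ M with hs
  have hjM : j ≤ M := (Nat.lt_pow_self Fintype.one_lt_card).le
  have hfs : aeval (s : Matrix (Fin n) (Fin n) F) f = 0 := by
    change aeval ((g : Matrix (Fin n) (Fin n) F) ^ M) f = 0
    rw [hM, aeval_pow_card, pow_eq_zero_of_le hjM hg]
  let T : End F (Fin n → F) := Matrix.toLinAlgEquiv' (s : Matrix (Fin n) (Fin n) F)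
  have : Fact (Irreducible f) := ⟨hf⟩
  have hT : aeval T f = 0 := by
    change aeval ((Matrix.toLinAlgEquiv' : Matrix (Fin n) (Fin n) F ≃ₐ[F] _).toAlgHom
      (s : Matrix (Fin n) (Fin n) F)) f = 0
    rw [aeval_algHom_apply, hfs, map_zero]
  let φ : AdjoinRoot f →+* End F (Fin n → F) :=
    Ideal.Quotient.lift _ (aeval T).toRingHom fun x hx => by
      obtain ⟨y, rfl⟩ := Ideal.mem_span_singleton.1 hx
      change aeval T (f * y) = 0
      rw [map_mul, hT, zero_mul]
  let : Module (AdjoinRoot f) (Fin n → F) := Module.compHom (Fin n → F) φ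
  have : IsScalarTower F (AdjoinRoot f) (Fin n → F) := IsScalarTower.of_algebraMap_smul fun c v => by
    change aeval T (C c) v = c • v
    rw [aeval_C]
    rfl
  have : FiniteDimensional F (AdjoinRoot f) := (AdjoinRoot.powerBasis hf.ne_zero).finite
  have : Finite (AdjoinRoot f) := Module.finite_of_finite F
  have : Module.Finite (AdjoinRoot f) (Fin n → F) := Module.Finite.of_restrictScalars_finite F _ _
  have hdim : finrank F (AdjoinRoot f) * finrank (AdjoinRoot f) (Fin n → F) = n :=
    (Module.finrank_mul_finrank F (AdjoinRoot f) (Fin n → F)).trans (Module.finrank_fin_fun F)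
  obtain ⟨ι⟩ := FiniteField.nonempty_algHom_of_finrank_dvd (F := F) (K := AdjoinRoot f) (L := L)
    (by rw [hL]; exact Dvd.intro _ hdim)
  let : Algebra (AdjoinRoot f) L := ι.toRingHom.toAlgebra
  have : IsScalarTower F (AdjoinRoot f) L := IsScalarTower.of_algebraMap_eq' ι.comp_algebraMap.symm
  have : Module.Finite (AdjoinRoot f) L := Module.Finite.of_restrictScalars_finite F _ _
  have hdim' : finrank (AdjoinRoot f) (Fin n → F) = finrank (AdjoinRoot f) L := by
    refine Nat.eq_of_mul_eq_mul_left (n := finrank F (AdjoinRoot f)) finrank_pos ?_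
    rw [hdim, Module.finrank_mul_finrank, hL]
  obtain ⟨eE⟩ := FiniteDimensional.nonempty_linearEquiv_of_finrank_eq hdim'
  let e : (Fin n → F) ≃ₗ[F] L := eE.restrictScalars F
  let ξ : L := ι (AdjoinRoot.root f)
  have hξ : ∀ v, e ((s : Matrix (Fin n) (Fin n) F) *ᵥ v) = ξ * e v := fun v => by
    have h1 : AdjoinRoot.root f • v = (s : Matrix (Fin n) (Fin n) F) *ᵥ v := by
      change aeval T X v = _
      rw [aeval_X]
      rfl
    rw [← h1]
    exact (eE.map_smul _ v).trans (Algebra.smul_def (AdjoinRoot.root f) (eE v))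
  let b : Basis (Fin n) F L := (Pi.basisFun F (Fin n)).map e
  have hb : ∀ v i, b.repr (e v) i = v i := fun v i => by simp [b]
  have hmat : Algebra.leftMulMatrix b ξ = (s : Matrix (Fin n) (Fin n) F) := by
    ext i k
    rw [Algebra.leftMulMatrix_eq_repr_mul, show b k = e (Pi.single k 1) by simp [b], ← hξ, hb,
      Matrix.mulVec_single_one, Matrix.col_apply]
  have hnorm : Algebra.norm F ξ = 1 := by
    rw [Algebra.norm_eq_matrix_det b, hmat]
    exact s.prop
  have hξ0 : ξ ≠ 0 := fun h => by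
    rw [h, Algebra.norm_zero] at hnorm
    exact zero_ne_one hnorm
  obtain ⟨k, hk⟩ := hσ ⟨Units.mk0 ξ hξ0, Units.ext hnorm⟩
  obtain ⟨c, hc⟩ := (mk_pow_eq_one_iff S _).1
    (pow_orderOf_eq_one (QuotientGroup.mk S : ProjectiveSpecialLinearGroup (Fin n) F))
  set N := orderOf (QuotientGroup.mk S : ProjectiveSpecialLinearGroup (Fin n) F) with hN
  have hc' : (((σ : Lˣ) ^ N : Lˣ) : L) = algebraMap F L c := by
    refine Algebra.leftMulMatrix_injective b₀ ?_
    rw [Units.val_pow_eq_pow_val, map_pow, AlgHom.commutes]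
    exact hc
  have hk' : ((σ : Lˣ) ^ k : Lˣ) = Units.mk0 ξ hξ0 := congrArg Subtype.val hk
  rw [orderOf_dvd_iff_pow_eq_one, mk_pow_eq_one_iff]
  have hc0 : c ≠ 0 := fun h => Units.ne_zero _ (hc'.trans (by rw [h, map_zero]))
  refine ⟨c ^ k, ?_⟩
  rw [pow_mul]
  change (s : Matrix (Fin n) (Fin n) F) ^ N = _
  rw [← hmat, ← map_pow]
  have hξN : ξ ^ N = algebraMap F L (c ^ k) := by
    have h1 : Units.mk0 ξ hξ0 ^ N = Units.map (algebraMap F L : F →* L) (Units.mk0 c hc0) ^ k := by
      rw [← hk', ← zpow_natCast, ← _root_.zpow_mul, mul_comm, _root_.zpow_mul, zpow_natCast]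
      congr 1
      exact Units.ext hc'
    have h2 := congrArg (fun u : Lˣ => (u : L)) h1
    simp only [Units.val_zpow_eq_zpow_val, Units.val_pow_eq_pow_val, Units.val_mk0,
      Units.coe_map, MonoidHom.coe_coe] at h2
    rw [h2, map_zpow₀]
  rw [hξN, AlgHom.commutes]
  rfl

theorem exists_unipotent_pow {p a : ℕ} (hp : p.Prime) [CharP F p] (hF : Fintype.card F = p ^ a)
    (ha : 1 ≤ a) (e : ℕ) (he : n ≤ p ^ e) (hn : 1 ≤ n)
    (y : ProjectiveSpecialLinearGroup (Fin n) F) : p ^ (orderOf y).factorization p ∣ p ^ e := by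
  classical
  have : Fact p.Prime := ⟨hp⟩
  have : Nonempty (Fin n) := ⟨⟨0, hn⟩⟩
  set c := (orderOf y).factorization p with hc
  obtain ⟨x, hx⟩ := exists_orderOf_of_dvd y (Nat.ordProj_dvd (orderOf y) p)
  obtain ⟨g, rfl⟩ := QuotientGroup.mk_surjective x
  obtain ⟨c₀, hc₀⟩ := (mk_pow_eq_one_iff g (p ^ c)).1 (by rw [← hx]; exact pow_orderOf_eq_one _)
  have hc₀0 : c₀ ≠ 0 := fun h => by
    have h1 := congrArg Matrix.det hc₀
    rw [det_pow, g.prop, one_pow, h, map_zero, det_zero] at h1
    exact one_ne_zero h1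
  set G := (g : Matrix (Fin n) (Fin n) F) ^ (Fintype.card F - 1) with hG
  have hG1 : G ^ p ^ c = 1 := by
    rw [hG, pow_right_comm, hc₀, ← map_pow, FiniteField.pow_card_sub_one_eq_one c₀ hc₀0, map_one]
  have hnil : IsNilpotent (G - 1) := ⟨p ^ c, by
    rw [sub_pow_char_pow_of_commute (p := p) (h := Commute.one_right G), hG1, one_pow, sub_self]⟩
  have hzero : (G - 1) ^ n = 0 := by
    have h := Matrix.isNilpotent_charpoly_sub_pow_of_isNilpotent hnil
    have h2 : Matrix.charpoly (G - 1) = X ^ n := by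
      have := sub_eq_zero.1 (IsReduced.eq_zero _ h)
      simpa using this
    have h3 := Matrix.aeval_self_charpoly (G - 1)
    rwa [h2, map_pow, aeval_X] at h3
  have hGe : G ^ p ^ e = 1 := by
    have h := sub_pow_char_pow_of_commute (p := p) (n := e) (h := Commute.one_right G)
    rw [one_pow, pow_eq_zero_of_le he hzero] at h
    exact sub_eq_zero.1 h.symm
  have h1 : (QuotientGroup.mk g : ProjectiveSpecialLinearGroup (Fin n) F) ^
      ((Fintype.card F - 1) * p ^ e) = 1 := by
    rw [mk_pow_eq_one_iff]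
    exact ⟨1, by rw [pow_mul, ← hG, hGe, map_one]⟩
  rw [← orderOf_dvd_iff_pow_eq_one, hx] at h1
  refine Nat.Coprime.dvd_of_dvd_mul_left (Nat.Coprime.pow_left _ ?_) h1
  rw [hp.coprime_iff_not_dvd, hF]
  intro h
  have h2 : p ∣ p ^ a := dvd_pow_self p (by omega)
  have h3 : p ^ a ≥ 1 := Nat.one_le_pow _ _ hp.pos
  exact hp.not_dvd_one (by simpa [Nat.sub_sub_self h3] using Nat.dvd_sub h2 h)

end Singer

end Cfsg.Agent.KnownSimple.Spectrum
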