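import Mathlib
import Cfsg.Agent.Lib.Forms.SympStd
import Cfsg.Agent.Lib.Classical.Symplectic

/-!
# Lower bounds for the degree of a representation in cross characteristic

An abelian subgroup isomorphic to a vector space is diagonalisable, and the set of its characters
that occur is invariant under the normaliser.
-/

set_option autoImplicit false
set_option linter.unusedSectionVars false

namespace Cfsg.Agent.KnownSimple.CrossCharDegree

open Module Finset
open scoped Matrix

universe u v w

variable {L : Type u} [Field L] {V : Type v} [AddCommGroup V] [Module L V]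

/-- a commuting family has a common eigenvector in an invariant subspace -/
theorem exists_common_eigenvector [IsAlgClosed L] [FiniteDimensional L V] {β : Type*} [Finite β]
    (T : β → Module.End L V) (hT : ∀ i j, Commute (T i) (T j)) (W : Submodule L V) (hW0 : W ≠ ⊥)
    (hW : ∀ i, ∀ x ∈ W, T i x ∈ W) : ∃ x ∈ W, x ≠ 0 ∧ ∀ i, ∃ c : L, T i x = c • x := by
  classical
  cases nonempty_fintype β
  suffices h : ∀ s : Finset β, ∀ W : Submodule L V, W ≠ ⊥ → (∀ i, ∀ x ∈ W, T i x ∈ W) →
      ∃ x ∈ W, x ≠ 0 ∧ ∀ i ∈ s, ∃ c : L, T i x = c • x by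
    obtain ⟨x, hx, hx0, hc⟩ := h univ W hW0 hW
    exact ⟨x, hx, hx0, fun i => hc i (mem_univ i)⟩
  intro s
  induction s using Finset.induction_on with
  | empty =>
    intro W hW0 _
    obtain ⟨x, hx, hx0⟩ := Submodule.exists_mem_ne_zero_of_ne_bot hW0
    exact ⟨x, hx, hx0, fun i hi => absurd hi (notMem_empty i)⟩
  | insert a s _ ih =>
    intro W hW0 hW
    have : Nontrivial W := Submodule.nontrivial_iff_ne_bot.2 hW0
    obtain ⟨μ, hμ⟩ := Module.End.exists_eigenvalue ((T a).restrict (hW a))
    obtain ⟨y, hy⟩ := hμ.exists_hasEigenvector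
    let E : Submodule L V := W ⊓ LinearMap.ker (T a - μ • 1)
    have hE : ∀ x, x ∈ E ↔ x ∈ W ∧ T a x = μ • x := fun x => by
      simp [E, sub_eq_zero]
    have hy' : (y : V) ∈ E := (hE _).2 ⟨y.2, congrArg Subtype.val (Module.End.mem_eigenspace_iff.1 hy.1)⟩
    have hE0 : E ≠ ⊥ := fun h => hy.2 (Subtype.ext ((Submodule.eq_bot_iff E).1 h _ hy'))
    obtain ⟨x, hx, hx0, hc⟩ := ih E hE0 fun i x hx => by
      rw [hE] at hx ⊢
      refine ⟨hW i x hx.1, ?_⟩
      rw [← Module.End.mul_apply, (hT a i).eq, Module.End.mul_apply, hx.2, map_smul]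
    refine ⟨x, ((hE x).1 hx).1, hx0, fun i hi => ?_⟩
    rcases Finset.mem_insert.1 hi with rfl | hi
    · exact ⟨μ, ((hE x).1 hx).2⟩
    · exact hc i hi

/-- a non-trivial operator of finite order prime to the characteristic has a non-trivial eigenvalue -/
theorem exists_eigen_ne_one [IsAlgClosed L] [FiniteDimensional L V] {T : Module.End L V} {p : ℕ}
    (hp : (p : L) ≠ 0) (hT : T ^ p = 1) (hT1 : T ≠ 1) :
    ∃ μ : L, μ ≠ 1 ∧ ∃ x, x ≠ 0 ∧ T x = μ • x := by
  set P : Module.End L V := ∑ j ∈ range p, T ^ j with hP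
  have hmul : P * (T - 1) = 0 := by rw [hP, geom_sum_mul, hT, sub_self]
  let R : Submodule L V := LinearMap.range (T - 1)
  have hR0 : R ≠ ⊥ := fun h => hT1 (sub_eq_zero.1 (LinearMap.range_eq_bot.1 h))
  have hRT : ∀ x ∈ R, T x ∈ R := by
    rintro _ ⟨y, rfl⟩
    exact ⟨T y, by simp⟩
  have : Nontrivial R := Submodule.nontrivial_iff_ne_bot.2 hR0
  obtain ⟨μ, hμ⟩ := Module.End.exists_eigenvalue (T.restrict hRT)
  obtain ⟨y, hy⟩ := hμ.exists_hasEigenvector
  have hy' : T (y : V) = μ • (y : V) := congrArg Subtype.val (Module.End.mem_eigenspace_iff.1 hy.1)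
  refine ⟨μ, fun h1 => hy.2 (Subtype.ext ?_), y, fun h => hy.2 (Subtype.ext h), hy'⟩
  obtain ⟨z, hz⟩ := y.2
  have h0 : P (y : V) = 0 := by rw [← hz, ← Module.End.mul_apply, hmul, LinearMap.zero_apply]
  have hpow : ∀ j : ℕ, (T ^ j) (y : V) = (y : V) := fun j => by
    induction j with
    | zero => rfl
    | succ j ih => rw [pow_succ', Module.End.mul_apply, ih, hy', h1, one_smul]
  rw [hP, LinearMap.sum_apply, Finset.sum_congr rfl fun j _ => hpow j, Finset.sum_const, card_range,
    ← Nat.cast_smul_eq_nsmul L] at h0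
  exact (smul_eq_zero.1 h0).resolve_left hp

section Characters

variable [FiniteDimensional L V] {A : Type w} [AddCommGroup A]
variable {S : Multiplicative A →* Module.End L V}

theorem addChar_li (A : Type w) [AddCommGroup A] :
    LinearIndependent L fun χ : AddChar A L => (fun a => χ a) := by
  have := (linearIndependent_monoidHom (Multiplicative A) L).comp AddChar.toMonoidHom
    (fun χ χ' h => DFunLike.ext _ _ fun a => DFunLike.congr_fun h (Multiplicative.ofAdd a))
  exact this

/-- the set of characters that occur -/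
def chars (S : Multiplicative A →* Module.End L V) : Set (AddChar A L) :=
  {χ | ∃ x, x ≠ 0 ∧ ∀ a, S (Multiplicative.ofAdd a) x = χ a • x}

theorem exists_char [IsAlgClosed L] [Finite A] {a₀ : A} {p : ℕ} (hp : (p : L) ≠ 0)
    (ha₀ : p • a₀ = 0) (hS : S (Multiplicative.ofAdd a₀) ≠ 1) : ∃ χ ∈ chars S, χ a₀ ≠ 1 := by
  have hT : S (Multiplicative.ofAdd a₀) ^ p = 1 := by
    rw [← map_pow, ← ofAdd_nsmul, ha₀, ofAdd_zero, map_one]
  obtain ⟨μ, hμ, x₀, hx₀, hx₀'⟩ := exists_eigen_ne_one hp hT hS
  have hcomm : ∀ a b : A, Commute (S (Multiplicative.ofAdd a)) (S (Multiplicative.ofAdd b)) :=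
    fun a b => (Commute.all _ _).map S
  let W : Submodule L V := LinearMap.ker (S (Multiplicative.ofAdd a₀) - μ • 1)
  have hW : ∀ x, x ∈ W ↔ S (Multiplicative.ofAdd a₀) x = μ • x := fun x => by simp [W, sub_eq_zero]
  obtain ⟨x, hxW, hx, hc⟩ := exists_common_eigenvector (fun a : A => S (Multiplicative.ofAdd a)) hcomm W
    (fun h => hx₀ ((Submodule.eq_bot_iff W).1 h x₀ ((hW _).2 hx₀'))) fun a z hz => by
      rw [hW] at hz ⊢
      rw [← Module.End.mul_apply, (hcomm a₀ a).eq, Module.End.mul_apply, hz, map_smul]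
  choose c hc using hc
  have hinj := smul_left_injective L hx
  have hadd : ∀ a b, c (a + b) = c a * c b := fun a b => hinj (by
    show c (a + b) • x = (c a * c b) • x
    rw [← hc, ofAdd_add, map_mul, Module.End.mul_apply, hc, map_smul, hc, smul_smul, mul_comm])
  have hzero : c 0 = 1 := hinj (by
    show c 0 • x = (1 : L) • x
    rw [← hc, ofAdd_zero, map_one, Module.End.one_apply, one_smul])
  refine ⟨{ toFun := c, map_zero_eq_one' := hzero, map_add_eq_mul' := hadd }, ⟨x, hx, hc⟩, fun h => hμ ?_⟩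
  have h1 : c a₀ • x = μ • x := (hc a₀).symm.trans ((hW x).1 hxW)
  rw [← hinj h1]
  exact h

/-- distinct characters need independent vectors -/
theorem card_le_finrank {C : Set (AddChar A L)} [Finite C] (hC : C ⊆ chars S) :
    Nat.card C ≤ finrank L V := by
  classical
  cases nonempty_fintype C
  choose x hx0 hx using fun χ : C => hC χ.2
  have hli : LinearIndependent L x := by
    refine Fintype.linearIndependent_iff.2 fun g hg i => ?_
    have key : ∀ a, ∑ j : C, (g j * (j : AddChar A L) a) • x j = 0 := fun a => by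
      have h1 := congrArg (S (Multiplicative.ofAdd a)) hg
      rw [map_sum, map_zero] at h1
      rw [← h1]
      exact Finset.sum_congr rfl fun j _ => by rw [map_smul, hx, smul_smul]
    obtain ⟨φ, hφ⟩ := Module.Projective.exists_dual_ne_zero L (hx0 i)
    have hind : LinearIndependent L fun j : C => ((j : AddChar A L) : A → L) :=
      (addChar_li A).comp _ Subtype.val_injective
    have h2 := Fintype.linearIndependent_iff.1 hind (fun j => g j * φ (x j)) (funext fun a => by
      have h3 := congrArg φ (key a)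
      simp only [map_sum, map_smul, smul_eq_mul, map_zero] at h3
      simp only [Finset.sum_apply, Pi.smul_apply, smul_eq_mul, Pi.zero_apply]
      rw [← h3]
      exact Finset.sum_congr rfl fun j _ => by ring) i
    exact (mul_eq_zero.1 h2).resolve_right hφ
  have := hli.fintype_card_le_finrank
  rwa [Nat.card_eq_fintype_card]

/-- the normaliser permutes the characters -/
theorem chars_comp {χ : AddChar A L} (hχ : χ ∈ chars S) (φ : A →+ A) {g h : Module.End L V}
    (hgh : h * g = 1)
    (hconj : ∀ a, S (Multiplicative.ofAdd a) * g = g * S (Multiplicative.ofAdd (φ a))) :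
    χ.compAddMonoidHom φ ∈ chars S := by
  obtain ⟨x, hx, hxa⟩ := hχ
  refine ⟨g x, fun h0 => hx ?_, fun a => ?_⟩
  · rw [← Module.End.one_apply (R := L) x, ← hgh, Module.End.mul_apply, h0, map_zero]
  · rw [← Module.End.mul_apply, hconj, Module.End.mul_apply, hxa, map_smul]
    rfl

end Characters

section Dual

variable {F : Type w} [Field F] {ι : Type} [Fintype ι] [DecidableEq ι]

/-- the character `v ↦ ψ (c ⬝ᵥ v)` -/
def dotChar (ψ : AddChar F L) (c : ι → F) : AddChar (ι → F) L where
  toFun v := ψ (c ⬝ᵥ v)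
  map_zero_eq_one' := by simp
  map_add_eq_mul' v w := by simp [dotProduct_add, AddChar.map_add_eq_mul]

theorem dotChar_apply (ψ : AddChar F L) (c v : ι → F) : dotChar ψ c v = ψ (c ⬝ᵥ v) := rfl

theorem dotChar_injective {ψ : AddChar F L} (hψ : ψ ≠ 1) : Function.Injective (dotChar (ι := ι) ψ) := by
  intro c d h
  funext i
  by_contra hne
  refine hψ (DFunLike.ext _ _ fun t => ?_)
  have h1 := DFunLike.congr_fun h (Pi.single i (t / (c i - d i)))
  rw [dotChar_apply, dotChar_apply, dotProduct_single, dotProduct_single] at h1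
  have hd : c i - d i ≠ 0 := sub_ne_zero.2 hne
  have h3 : c i * (t / (c i - d i)) = t + d i * (t / (c i - d i)) := by field_simp; ring
  rw [h3, AddChar.map_add_eq_mul] at h1
  have h4 : ψ (d i * (t / (c i - d i))) ≠ 0 := (AddChar.val_isUnit ψ _).ne_zero
  rw [AddChar.one_apply]
  exact mul_right_cancel₀ h4 (h1.trans (one_mul _).symm)

theorem map_sum_prod {A : Type*} [AddCommMonoid A] {β : Type*} (χ : AddChar A L) (s : Finset β)
    (f : β → A) : χ (∑ i ∈ s, f i) = ∏ i ∈ s, χ (f i) := by
  classical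
  induction s using Finset.induction_on with
  | empty => simp
  | insert a s ha ih => rw [Finset.sum_insert ha, Finset.prod_insert ha, AddChar.map_add_eq_mul, ih]

/-- every character is a `dotChar` -/
theorem exists_eq_dotChar [Fintype F] {χ : AddChar (ι → F) L} {i₀ : ι} {t₀ : F}
    (h : χ (Pi.single i₀ t₀) ≠ 1) :
    ∃ (ψ : AddChar F L) (c : ι → F), ψ ≠ 1 ∧ c i₀ ≠ 0 ∧ χ = dotChar ψ c := by
  classical
  let res : ι → AddChar F L := fun i =>
    { toFun := fun t => χ (Pi.single i t)
      map_zero_eq_one' := by simp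
      map_add_eq_mul' := fun a b => by rw [Pi.single_add, AddChar.map_add_eq_mul] }
  set ψ := res i₀ with hψd
  have hψ : ψ ≠ 1 := fun h1 => h (by
    have := DFunLike.congr_fun h1 t₀
    simpa [hψd, res] using this)
  -- the shifts of `ψ` exhaust the characters of `F`
  haveI : Finite (AddChar F L) := (addChar_li (L := L) F).finite
  haveI : Fintype (AddChar F L) := Fintype.ofFinite _
  have hinj : Function.Injective fun a : F => ψ.mulShift a := fun a b hab => by
    by_contra hne
    refine hψ (DFunLike.ext _ _ fun t => ?_)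
    have h1 := DFunLike.congr_fun hab (t / (a - b))
    simp only [AddChar.mulShift_apply] at h1
    have hd : a - b ≠ 0 := sub_ne_zero.2 hne
    have h3 : a * (t / (a - b)) = t + b * (t / (a - b)) := by field_simp; ring
    rw [h3, AddChar.map_add_eq_mul] at h1
    rw [AddChar.one_apply]
    exact mul_right_cancel₀ (AddChar.val_isUnit ψ _).ne_zero (h1.trans (one_mul _).symm)
  have hcard : Fintype.card (AddChar F L) ≤ Fintype.card F := by
    have := (addChar_li (L := L) F).fintype_card_le_finrank
    rwa [Module.finrank_pi] at this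
  have hsurj : Function.Surjective fun a : F => ψ.mulShift a :=
    ((Fintype.bijective_iff_injective_and_card _).2
      ⟨hinj, le_antisymm (Fintype.card_le_of_injective _ hinj) hcard⟩).2
  choose c hc using fun i => hsurj (res i)
  refine ⟨ψ, c, hψ, fun h0 => hψ ?_, DFunLike.ext _ _ fun v => ?_⟩
  · rw [hψd, ← hc i₀, h0]
    exact AddChar.mulShift_zero ψ
  · rw [dotChar_apply, dotProduct]
    have hv : v = ∑ i, Pi.single i (v i) := (Finset.univ_sum_single v).symm
    conv_lhs => rw [hv]
    rw [map_sum_prod, map_sum_prod]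
    refine Finset.prod_congr rfl fun i _ => ?_
    exact (DFunLike.congr_fun (hc i) (v i)).symm

end Dual

section Rep

variable {K : Type u} [Field K] {G : Type*} [Group G] {d : ℕ}

/-- the representation over the algebraic closure -/
noncomputable def extend (ρ : G →* GL (Fin d) K) :
    G →* Module.End (AlgebraicClosure K) (Fin d → AlgebraicClosure K) :=
  (Matrix.toLinAlgEquiv' (R := AlgebraicClosure K) (n := Fin d)).toAlgHom.toMonoidHom.comp
    ((algebraMap K (AlgebraicClosure K)).mapMatrix.toMonoidHom.comp ((Units.coeHom _).comp ρ))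

theorem extend_eq_one {ρ : G →* GL (Fin d) K} {g : G} (h : extend ρ g = 1) : ρ g = 1 := by
  refine Units.ext ?_
  have h1 : Matrix.toLinAlgEquiv' (((ρ g : Matrix (Fin d) (Fin d) K)).map (algebraMap K (AlgebraicClosure K))) =
      (1 : Module.End (AlgebraicClosure K) (Fin d → AlgebraicClosure K)) := h
  rw [← map_one (Matrix.toLinAlgEquiv' (R := AlgebraicClosure K) (n := Fin d))] at h1
  have h2 := Matrix.toLinAlgEquiv'.injective h1
  refine Matrix.map_injective (algebraMap K (AlgebraicClosure K)).injective ?_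
  show ((ρ g : Matrix (Fin d) (Fin d) K)).map _ = Matrix.map _ _
  rw [h2, Units.val_one, Matrix.map_one _ (map_zero _) (map_one _)]

theorem cast_prime_ne_zero {F : Type*} [Field F] [Finite F] (hK : ringChar K ≠ ringChar F) :
    (ringChar F : AlgebraicClosure K) ≠ 0 := by
  have hp : (ringChar F).Prime := CharP.char_is_prime F _
  rw [← map_natCast (algebraMap K (AlgebraicClosure K))]
  refine (map_ne_zero _).2 fun h => hK ?_
  have hd := ringChar.dvd h
  rcases (Nat.dvd_prime hp).1 hd with h1 | h1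
  · exact absurd h1 (CharP.ringChar_ne_one)
  · exact h1

end Rep

/-! ## The special linear group -/

section SL

variable {F : Type w} [Field F] [Fintype F] {m : ℕ}

/-- `1 + (first row v)` -/
def rowElt (v : Fin m → F) : Matrix.SpecialLinearGroup (Unit ⊕ Fin m) F :=
  ⟨Matrix.fromBlocks 1 (Matrix.of fun _ j => v j) 0 1, by simp⟩

theorem rowElt_mul (v w : Fin m → F) : rowElt (v + w) = rowElt v * rowElt w := by
  refine Subtype.ext ?_
  show Matrix.fromBlocks _ _ _ _ = Matrix.fromBlocks _ _ _ _ * Matrix.fromBlocks _ _ _ _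
  rw [Matrix.fromBlocks_multiply]
  simp only [one_mul, mul_one, mul_zero, zero_mul, add_zero, zero_add]
  congr 1
  · simp
  · rw [Matrix.one_mul, Matrix.mul_one]; ext i j; simp [add_comm]
  · simp
  · simp

theorem rowElt_zero : rowElt (0 : Fin m → F) = 1 := by
  have h := rowElt_mul (0 : Fin m → F) 0
  rw [add_zero] at h
  exact left_eq_mul.1 h

/-- the Levi elements -/
def levi (M : Matrix.SpecialLinearGroup (Fin m) F) : Matrix.SpecialLinearGroup (Unit ⊕ Fin m) F :=
  ⟨Matrix.fromBlocks 1 0 0 M.1, by simp [M.2]⟩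

theorem rowElt_levi (M : Matrix.SpecialLinearGroup (Fin m) F) (v : Fin m → F) :
    rowElt v * levi M = levi M * rowElt (v ᵥ* M.1) := by
  refine Subtype.ext ?_
  show Matrix.fromBlocks _ _ _ _ * Matrix.fromBlocks _ _ _ _ =
    Matrix.fromBlocks _ _ _ _ * Matrix.fromBlocks _ _ _ _
  rw [Matrix.fromBlocks_multiply, Matrix.fromBlocks_multiply]
  simp only [Matrix.one_mul, Matrix.mul_one, Matrix.mul_zero, Matrix.zero_mul, add_zero, zero_add]
  congr 1

/-- transvections move any non-zero vector to any other -/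
theorem exists_move_SL (hm : 2 ≤ m) {c c' : Fin m → F} (hc : c ≠ 0) (hc' : c' ≠ 0) :
    ∃ M : Matrix.SpecialLinearGroup (Fin m) F, M.1 *ᵥ c = c' := by
  classical
  have step : ∀ a b w : Fin m → F, w ⬝ᵥ a = 1 → w ⬝ᵥ b = 1 →
      ∃ M : Matrix.SpecialLinearGroup (Fin m) F, M.1 *ᵥ a = b := by
    intro a b w ha hb
    refine ⟨⟨1 + Matrix.replicateCol Unit (b - a) * Matrix.replicateRow Unit w, ?_⟩, ?_⟩
    · rw [Matrix.det_one_add_replicateCol_mul_replicateRow, dotProduct_sub, ha, hb, sub_self, add_zero]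
    · show (1 + Matrix.replicateCol Unit (b - a) * Matrix.replicateRow Unit w) *ᵥ a = b
      rw [Matrix.add_mulVec, Matrix.one_mulVec, ← Matrix.vecMulVec_eq Unit, Matrix.vecMulVec_mulVec,
        ha]
      simp
  have indep : ∀ a b : Fin m → F, a ≠ 0 → (∀ t : F, b ≠ t • a) →
      ∃ w : Fin m → F, w ⬝ᵥ a = 1 ∧ w ⬝ᵥ b = 1 := by
    intro a b ha hb
    have hli : LinearIndependent F ![a, b] := (LinearIndependent.pair_iff' ha).2 fun t h => hb t h.symm
    obtain ⟨φ, hφ⟩ := LinearMap.exists_extend
      (p := Submodule.span F (Set.range ![a, b])) ((Basis.span hli).constr F fun _ => (1 : F))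
    refine ⟨fun i => φ (Pi.single i 1), ?_, ?_⟩
    all_goals
      have hw : ∀ x : Fin m → F, (fun i => φ (Pi.single i 1)) ⬝ᵥ x = φ x := fun x => by
        conv_rhs => rw [pi_eq_sum_univ' x]
        rw [map_sum, dotProduct]
        exact Finset.sum_congr rfl fun i _ => by rw [map_smul, smul_eq_mul, mul_comm]
      rw [hw]
    · have h := LinearMap.congr_fun hφ (Basis.span hli 0)
      rw [Basis.constr_basis] at h
      simpa [Basis.span_apply] using h
    · have h := LinearMap.congr_fun hφ (Basis.span hli 1)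
      rw [Basis.constr_basis] at h
      simpa [Basis.span_apply] using h
  by_cases hli : ∀ t : F, c' ≠ t • c
  · obtain ⟨w, h1, h2⟩ := indep c c' hc hli
    exact step c c' w h1 h2
  push Not at hli
  obtain ⟨t, rfl⟩ := hli
  obtain ⟨x, hx⟩ : ∃ x : Fin m → F, ∀ s : F, x ≠ s • c := by
    by_contra hall
    push Not at hall
    have h1 : finrank F (Fin m → F) ≤ 1 := finrank_le_one c fun x => by
      obtain ⟨s, hs⟩ := hall x
      exact ⟨s, hs.symm⟩
    rw [Module.finrank_pi, Fintype.card_fin] at h1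
    omega
  have ht : t ≠ 0 := fun h => hc' (by rw [h, zero_smul])
  obtain ⟨w, h1, h2⟩ := indep c x hc hx
  obtain ⟨M, hM⟩ := step c x w h1 h2
  have hx0 : x ≠ 0 := fun h => hx 0 (by rw [h, zero_smul])
  obtain ⟨w', h3, h4⟩ := indep x (t • c) hx0 fun s hs => by
    by_cases hs0 : s = 0
    · exact hc' (by rw [hs, hs0, zero_smul])
    · exact hx (s⁻¹ * t) (by rw [mul_smul, hs, smul_smul, inv_mul_cancel₀ hs0, one_smul])
  obtain ⟨M', hM'⟩ := step x (t • c) w' h3 h4
  exact ⟨M' * M, by
    show (M'.1 * M.1) *ᵥ c = _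
    rw [← Matrix.mulVec_mulVec, hM, hM']⟩

theorem special_linear_bound (hm : 2 ≤ m) {K : Type u} [Field K]
    (hK : ringChar K ≠ ringChar F) {d : ℕ}
    (ρ : Matrix.SpecialLinearGroup (Unit ⊕ Fin m) F →* GL (Fin d) K)
    (hker : ρ.ker ≤ Subgroup.center _) : Fintype.card F ^ m - 1 ≤ d := by
  classical
  set R := extend ρ with hR
  let S : Multiplicative (Fin m → F) →* Module.End (AlgebraicClosure K) (Fin d → AlgebraicClosure K) :=
    { toFun := fun v => R (rowElt v.toAdd)
      map_one' := by rw [toAdd_one, rowElt_zero, map_one]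
      map_mul' := fun v w => by simp only [toAdd_mul, rowElt_mul, map_mul] }
  have hS : ∀ v, S (Multiplicative.ofAdd v) = R (rowElt v) := fun v => rfl
  have hm' : 0 < m := by omega
  set e : Fin m → F := Pi.single ⟨0, hm'⟩ 1 with he
  have hne : S (Multiplicative.ofAdd e) ≠ 1 := by
    intro h
    have hz := hker (MonoidHom.mem_ker.2 (extend_eq_one (hS e ▸ h)))
    let T : Matrix.SpecialLinearGroup (Unit ⊕ Fin m) F :=
      ⟨Matrix.fromBlocks 1 0 (Matrix.of fun i _ => e i) 1, by simp⟩
    have h1 := congrArg Subtype.val (Subgroup.mem_center_iff.1 hz T)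
    change Matrix.fromBlocks _ _ _ _ * Matrix.fromBlocks _ _ _ _ =
      Matrix.fromBlocks _ _ _ _ * Matrix.fromBlocks _ _ _ _ at h1
    rw [Matrix.fromBlocks_multiply, Matrix.fromBlocks_multiply] at h1
    have h2 := congrFun (congrFun (congrArg Matrix.toBlocks₁₁ h1) ()) ()
    simp [Matrix.mul_apply, he, Pi.single_apply] at h2
  obtain ⟨χ, hχ, hχe⟩ := exists_char (S := S) (cast_prime_ne_zero (F := F) hK)
    (a₀ := e) (by funext i; simp [ringChar.Nat.cast_ringChar]) hne
  obtain ⟨ψ, c, hψ, hc, rfl⟩ := exists_eq_dotChar (i₀ := (⟨0, hm'⟩ : Fin m)) (t₀ := 1) hχe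
  have hc0 : c ≠ 0 := fun h => hc (by rw [h]; rfl)
  have hall : Set.range (fun c' : {x : Fin m → F // x ≠ 0} => dotChar ψ c'.1) ⊆ chars S := by
    rintro _ ⟨⟨c', hc'⟩, rfl⟩
    obtain ⟨M, hM⟩ := exists_move_SL hm hc0 hc'
    have h := chars_comp hχ
      (AddMonoidHom.mk' (fun v : Fin m → F => v ᵥ* M.1) fun v w => Matrix.add_vecMul M.1 v w)
      (g := R (levi M)) (h := R (levi M)⁻¹) (by rw [← map_mul, inv_mul_cancel, map_one])
      fun v => by rw [hS, hS, ← map_mul, rowElt_levi, map_mul]; rfl
    convert h using 1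
    refine DFunLike.ext _ _ fun v => ?_
    show ψ (c' ⬝ᵥ v) = ψ (c ⬝ᵥ (v ᵥ* M.1))
    rw [← hM, dotProduct_comm c (v ᵥ* M.1), ← Matrix.dotProduct_mulVec, dotProduct_comm]
  have h1 := card_le_finrank hall
  rw [Module.finrank_pi, Fintype.card_fin, Nat.card_range_of_injective fun a b hab =>
    Subtype.ext (dotChar_injective hψ hab), Nat.card_eq_fintype_card, Fintype.card_subtype_compl,
    Fintype.card_subtype_eq, Fintype.card_fun, Fintype.card_fin] at h1
  exact h1

end SL

/-! ## The symplectic group -/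

section Sp

variable {F : Type w} [Field F] [Fintype F] {n : ℕ}

open Cfsg.Agent.Forms.SympStd

/-- symmetric matrix supported on the first row and column -/
def hook (i₀ : Fin n) (v : Fin n → F) : Matrix (Fin n) (Fin n) F :=
  Matrix.of fun i j => if i = i₀ then v j else if j = i₀ then v i else 0

theorem hook_symm (i₀ : Fin n) (v : Fin n → F) : (hook i₀ v)ᵀ = hook i₀ v := by
  ext i j
  simp only [hook, Matrix.transpose_apply, Matrix.of_apply]
  split_ifs with h1 h2 <;> simp_all

/-- the abelian subgroup -/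
def unip (i₀ : Fin n) (v : Fin n → F) : Matrix.symplecticGroup (Fin n) F :=
  ⟨Matrix.fromBlocks 1 (hook i₀ v) 0 1, by
    rw [SymplecticGroup.mem_iff, Matrix.J, Matrix.fromBlocks_transpose, Matrix.fromBlocks_multiply,
      Matrix.fromBlocks_multiply]
    simp [hook_symm]⟩

theorem unip_mul (i₀ : Fin n) (v w : Fin n → F) : unip i₀ (v + w) = unip i₀ v * unip i₀ w := by
  refine Subtype.ext ?_
  show Matrix.fromBlocks _ _ _ _ = Matrix.fromBlocks _ _ _ _ * Matrix.fromBlocks _ _ _ _
  rw [Matrix.fromBlocks_multiply]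
  simp only [one_mul, mul_one, mul_zero, zero_mul, add_zero, zero_add]
  congr 1
  ext i j
  simp only [hook, Matrix.of_apply, Matrix.add_apply, Pi.add_apply]
  split_ifs <;> ring

theorem unip_zero (i₀ : Fin n) : unip i₀ (0 : Fin n → F) = 1 := by
  have h := unip_mul i₀ (0 : Fin n → F) 0
  rw [add_zero] at h
  exact left_eq_mul.1 h

/-- Levi elements -/
def leviSp (M N : Matrix (Fin n) (Fin n) F) (h : M * Nᵀ = 1) : Matrix.symplecticGroup (Fin n) F :=
  ⟨Matrix.fromBlocks M 0 0 N, by
    rw [SymplecticGroup.mem_iff, Matrix.J, Matrix.fromBlocks_transpose, Matrix.fromBlocks_multiply,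
      Matrix.fromBlocks_multiply]
    have h' : N * Mᵀ = 1 := by rw [← Matrix.transpose_inj, Matrix.transpose_mul]; simpa using h
    simp [h, h']⟩

theorem unip_levi {i₀ : Fin n} {v w : Fin n → F} {M N : Matrix (Fin n) (Fin n) F} (h : M * Nᵀ = 1)
    (hvw : M * hook i₀ w = hook i₀ v * N) :
    unip i₀ v * leviSp M N h = leviSp M N h * unip i₀ w := by
  refine Subtype.ext ?_
  show Matrix.fromBlocks _ _ _ _ * Matrix.fromBlocks _ _ _ _ =
    Matrix.fromBlocks _ _ _ _ * Matrix.fromBlocks _ _ _ _
  rw [Matrix.fromBlocks_multiply, Matrix.fromBlocks_multiply]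
  simp only [one_mul, mul_one, mul_zero, zero_mul, add_zero, zero_add, hvw]

theorem card_squares (_hodd : Odd (Fintype.card F)) :
    (Fintype.card F - 1) / 2 ≤ Nat.card (MonoidHom.range (powMonoidHom 2 : Fˣ →* Fˣ)) := by
  classical
  have h := (powMonoidHom 2 : Fˣ →* Fˣ).ker.card_mul_index
  rw [Subgroup.index_ker, Nat.card_units, Nat.card_eq_fintype_card (α := F)] at h
  have hle : Nat.card (powMonoidHom 2 : Fˣ →* Fˣ).ker ≤ 2 := by
    rw [IsCyclic.card_powMonoidHom_ker]
    exact Nat.le_of_dvd two_pos (Nat.gcd_dvd_right _ _)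
  rw [← h]
  refine Nat.div_le_of_le_mul ?_
  exact Nat.mul_le_mul_right _ hle

theorem symplectic_bound (hodd : Odd (Fintype.card F)) (hn : 1 ≤ n) {K : Type u} [Field K]
    (hK : ringChar K ≠ ringChar F) {d : ℕ}
    (ρ : Matrix.symplecticGroup (Fin n) F →* GL (Fin d) K)
    (hker : ρ.ker ≤ Subgroup.center _) :
    (Fintype.card F - 1) / 2 * Fintype.card F ^ (n - 1) ≤ d := by
  classical
  have h2 : (2 : F) ≠ 0 := Ring.two_ne_zero fun h => by
    have := FiniteField.even_card_of_char_two h
    rw [Nat.odd_iff] at hodd; omega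
  set R := extend ρ with hR
  let i₀ : Fin n := ⟨0, hn⟩
  let S : Multiplicative (Fin n → F) →* Module.End (AlgebraicClosure K) (Fin d → AlgebraicClosure K) :=
    { toFun := fun v => R (unip i₀ v.toAdd)
      map_one' := by rw [toAdd_one, unip_zero, map_one]
      map_mul' := fun v w => by simp only [toAdd_mul, unip_mul, map_mul] }
  have hS : ∀ v, S (Multiplicative.ofAdd v) = R (unip i₀ v) := fun v => rfl
  set e : Fin n → F := Pi.single i₀ 1 with he
  have hne : S (Multiplicative.ofAdd e) ≠ 1 := by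
    intro h
    have hz := hker (MonoidHom.mem_ker.2 (extend_eq_one (hS e ▸ h)))
    obtain ⟨c, hc⟩ := (Cfsg.Agent.Classical.Symplectic.mem_center_iff _).1 hz
    have h1 := congrFun (hc (Pi.single (Sum.inr i₀) 1)) (Sum.inl i₀)
    rw [Matrix.mulVec_single_one] at h1
    simp [unip, hook, he] at h1
  obtain ⟨χ, hχ, hχe⟩ := exists_char (S := S) (cast_prime_ne_zero (F := F) hK)
    (a₀ := e) (by funext i; simp [ringChar.Nat.cast_ringChar]) hne
  obtain ⟨ψ, c, hψ, hc, rfl⟩ := exists_eq_dotChar (i₀ := i₀) (t₀ := 1) hχe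
  -- the orbit
  let tgt : (MonoidHom.range (powMonoidHom 2 : Fˣ →* Fˣ)) × ({i : Fin n // i ≠ i₀} → F) → (Fin n → F) :=
    fun s i => if h : i = i₀ then c i₀ * ((s.1 : Fˣ) : F) else s.2 ⟨i, h⟩
  have htgt : Function.Injective tgt := by
    rintro ⟨s, f⟩ ⟨t, g⟩ h
    have h0 := congrFun h i₀
    simp only [tgt, dite_true] at h0
    refine Prod.ext (Subtype.ext (Units.ext (mul_left_cancel₀ hc h0))) (funext fun i => ?_)
    have h1 := congrFun h i.1
    simpa [tgt, i.2] using h1
  have hmem : ∀ s, dotChar ψ (tgt s) ∈ chars S := by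
    rintro ⟨⟨_, a, rfl⟩, f⟩
    set x : F := (a : F)⁻¹ with hx
    have hx0 : x ≠ 0 := inv_ne_zero a.ne_zero
    -- first the diagonal element
    let M : Matrix (Fin n) (Fin n) F := Matrix.diagonal fun i => if i = i₀ then x else 1
    let N : Matrix (Fin n) (Fin n) F := Matrix.diagonal fun i => if i = i₀ then x⁻¹ else 1
    have hMN : M * Nᵀ = 1 := by
      simp only [M, N, Matrix.diagonal_transpose, Matrix.diagonal_mul_diagonal]
      refine Matrix.diagonal_eq_one.2 (funext fun i => ?_)
      split_ifs <;> simp [hx0]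
    let φ₁ : (Fin n → F) →+ (Fin n → F) :=
      { toFun := fun v i => if i = i₀ then (x ^ 2)⁻¹ * v i else x⁻¹ * v i
        map_zero' := by funext i; simp
        map_add' := fun v w => by funext i; simp only [Pi.add_apply]; split_ifs <;> ring }
    have h1 := chars_comp hχ φ₁ (g := R (leviSp M N hMN)) (h := R (leviSp M N hMN)⁻¹)
      (by rw [← map_mul, inv_mul_cancel, map_one]) fun v => by
        rw [hS, hS, ← map_mul, ← map_mul]
        refine congrArg R (unip_levi hMN ?_)
        ext i j
        simp only [M, N, Matrix.diagonal_mul, Matrix.mul_diagonal, hook, Matrix.of_apply, φ₁,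
          AddMonoidHom.coe_mk, ZeroHom.coe_mk]
        split_ifs <;> (subst_vars; field_simp) <;> simp_all
    let c₁ : Fin n → F := fun i => if i = i₀ then (x ^ 2)⁻¹ * c i else x⁻¹ * c i
    have hc₁ : (dotChar ψ c).compAddMonoidHom φ₁ = dotChar ψ c₁ := DFunLike.ext _ _ fun v => by
      show ψ (c ⬝ᵥ φ₁ v) = ψ (c₁ ⬝ᵥ v)
      refine congrArg ψ (Finset.sum_congr rfl fun i _ => ?_)
      simp only [φ₁, c₁, AddMonoidHom.coe_mk, ZeroHom.coe_mk]
      split_ifs <;> ring
    rw [hc₁] at h1
    -- then the shear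
    let b : Fin n → F := fun i => if h : i = i₀ then 0 else (c₁ i - f ⟨i, h⟩) / (2 * c₁ i₀)
    have hb0 : b i₀ = 0 := by simp [b]
    have hc10 : c₁ i₀ ≠ 0 := by
      simp only [c₁, if_true]
      exact mul_ne_zero (inv_ne_zero (pow_ne_zero _ hx0)) hc
    let E : Matrix (Fin n) (Fin n) F := Matrix.of fun i j => if i = i₀ then b j else 0
    have hEE : E * E = 0 := by
      ext i j
      simp [E, Matrix.mul_apply, hb0]
    have hMN2 : (1 + E) * (1 - Eᵀ)ᵀ = 1 := by
      rw [Matrix.transpose_sub, Matrix.transpose_one, Matrix.transpose_transpose]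
      simp [add_mul, mul_sub, hEE]
    let φ₂ : (Fin n → F) →+ (Fin n → F) :=
      { toFun := fun v i => if i = i₀ then v i₀ - 2 * (b ⬝ᵥ v) else v i
        map_zero' := by funext i; simp
        map_add' := fun v w => by
          funext i; simp only [Pi.add_apply, dotProduct_add]; split_ifs <;> ring }
    have h2' := chars_comp h1 φ₂ (g := R (leviSp (1 + E) (1 - Eᵀ) hMN2))
      (h := R (leviSp (1 + E) (1 - Eᵀ) hMN2)⁻¹)
      (by rw [← map_mul, inv_mul_cancel, map_one]) fun v => by
        rw [hS, hS, ← map_mul, ← map_mul]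
        refine congrArg R (unip_levi hMN2 ?_)
        have hdot : b ⬝ᵥ φ₂ v = b ⬝ᵥ v := Finset.sum_congr rfl fun i _ => by
          by_cases hi : i = i₀
          · rw [hi, hb0]; simp
          · simp [φ₂, hi]
        have aux : ∀ (w : Fin n → F) (j : Fin n),
            ∑ k, b k * hook i₀ w k j = if j = i₀ then b ⬝ᵥ w else 0 := fun w j => by
          by_cases hj : j = i₀
          · rw [if_pos hj]
            refine Finset.sum_congr rfl fun k _ => ?_
            by_cases hk : k = i₀
            · rw [hk, hb0]; simp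
            · simp [hook, hk, hj]
          · rw [if_neg hj]
            refine Finset.sum_eq_zero fun k _ => ?_
            by_cases hk : k = i₀
            · rw [hk, hb0]; simp
            · simp [hook, hk, hj]
        ext i j
        have e1 : (E * hook i₀ (φ₂ v)) i j = if i = i₀ ∧ j = i₀ then b ⬝ᵥ v else 0 := by
          rw [Matrix.mul_apply]
          by_cases hi : i = i₀
          · simp only [E, Matrix.of_apply, hi, if_true, aux, hdot, true_and]
          · simp [E, hi]
        have e2 : (hook i₀ v * Eᵀ) i j = if i = i₀ ∧ j = i₀ then b ⬝ᵥ v else 0 := by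
          rw [← hook_symm, ← Matrix.transpose_mul, Matrix.transpose_apply, Matrix.mul_apply]
          by_cases hj : j = i₀
          · simp only [E, Matrix.of_apply, hj, if_true, aux, and_true]
          · simp [E, hj]
        rw [add_mul, one_mul, mul_sub, mul_one, Matrix.add_apply, Matrix.sub_apply, e1, e2]
        simp only [hook, Matrix.of_apply, φ₂, AddMonoidHom.coe_mk, ZeroHom.coe_mk]
        split_ifs <;> simp_all <;> ring
    convert h2' using 1
    refine DFunLike.ext _ _ fun v => ?_
    show ψ (tgt (⟨_, a, rfl⟩, f) ⬝ᵥ v) = ψ (c₁ ⬝ᵥ φ₂ v)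
    refine congrArg ψ ?_
    have hterm : ∀ i, c₁ i * φ₂ v i = tgt (⟨_, a, rfl⟩, f) i * v i +
        ((if i = i₀ then -(2 * c₁ i₀ * (b ⬝ᵥ v)) else 0) + 2 * c₁ i₀ * (b i * v i)) := fun i => by
      by_cases hi : i = i₀
      · subst hi
        simp only [φ₂, tgt, AddMonoidHom.coe_mk, ZeroHom.coe_mk, if_true, dite_true, hb0, c₁,
          powMonoidHom_apply, Units.val_pow_eq_pow_val, hx]
        field_simp
        ring
      · simp only [φ₂, tgt, b, AddMonoidHom.coe_mk, ZeroHom.coe_mk, if_neg hi, dif_neg hi]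
        field_simp
        ring
    simp only [dotProduct] at hterm ⊢
    rw [Finset.sum_congr rfl fun i _ => hterm i, Finset.sum_add_distrib, Finset.sum_add_distrib,
      Finset.sum_ite_eq', if_pos (Finset.mem_univ _), ← Finset.mul_sum]
    ring
  have hall : Set.range (fun s => dotChar ψ (tgt s)) ⊆ chars S := by
    rintro _ ⟨s, rfl⟩; exact hmem s
  have h1 := card_le_finrank hall
  rw [Module.finrank_pi, Fintype.card_fin, Nat.card_range_of_injective
    (f := fun s => dotChar ψ (tgt s)) ((dotChar_injective hψ).comp htgt), Nat.card_prod, Nat.card_eq_fintype_card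
    (α := {i : Fin n // i ≠ i₀} → F), Fintype.card_fun, Fintype.card_subtype_compl,
    Fintype.card_subtype_eq, Fintype.card_fin] at h1
  exact le_trans (Nat.mul_le_mul_right _ (card_squares hodd)) h1

end Sp

end Cfsg.Agent.KnownSimple.CrossCharDegree
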