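import Mathlib

/-!
# Groups of order 7920 with a disconnected prime graph are simple

For a non-simple group of order 7920 every pair of the primes 2, 3, 5, 11 is linked in the prime
graph. The only delicate case is 45 Sylow 11-subgroups inside a perfect normal subgroup of order
3960, which is excluded by the action on these subgroups.
-/

set_option autoImplicit false
set_option linter.style.haveILetI false

namespace Cfsg.Agent.KnownSimple.OrderSevenNineTwoZero

open Subgroup MulAction

variable {G : Type*} [Group G] [Finite G]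

/-! ## General tools -/

theorem fixed_mul {H : Type*} [Group H] [Finite H] {p : ℕ} [Fact p.Prime] (hH : IsPGroup p H)
    {R : Subgroup G} (f : H →* G) (hf : ∀ h, f h ∈ normalizer (R : Set G)) :
    ∃ C : Subgroup G, C ≤ R ∧ Nat.card C % p = Nat.card R % p ∧
      ∀ h : H, ∀ x ∈ C, f h * x = x * f h := by
  classical
  letI : MulAction H R :=
    { smul := fun h x => ⟨f h * x * (f h)⁻¹, (mem_normalizer_iff.1 (hf h) x).1 x.2⟩
      one_smul := fun x => Subtype.ext (by show f 1 * (x : G) * (f 1)⁻¹ = x; simp)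
      mul_smul := fun a b x => Subtype.ext (by
        show f (a * b) * (x : G) * (f (a * b))⁻¹ = f a * (f b * (x : G) * (f b)⁻¹) * (f a)⁻¹
        rw [map_mul]; group) }
  refine ⟨R ⊓ centralizer (Set.range f), inf_le_left, ?_, fun h x hx =>
    mem_centralizer_iff.1 hx.2 (f h) ⟨h, rfl⟩⟩
  have hmod := hH.card_modEq_card_fixedPoints R
  have e : Nat.card (fixedPoints H R) = Nat.card (R ⊓ centralizer (Set.range f) : Subgroup G) :=
    Nat.card_congr
    { toFun := fun x => ⟨(x.1 : G), x.1.2, mem_centralizer_iff.2 (by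
        rintro _ ⟨h, rfl⟩
        exact mul_inv_eq_iff_eq_mul.1 (congrArg Subtype.val (x.2 h)))⟩
      invFun := fun x => ⟨⟨x.1, x.2.1⟩, fun h => Subtype.ext
        (mul_inv_eq_iff_eq_mul.2 (mem_centralizer_iff.1 x.2.2 (f h) ⟨h, rfl⟩))⟩
      left_inv := fun x => rfl
      right_inv := fun x => rfl }
  rw [e] at hmod
  exact hmod.symm

/-- an element of order `a * b` from a centralizer -/
theorem edge_of_centralizer {a b : ℕ} (ha : a.Prime) (hb : b.Prime) (hab : a ≠ b) (H : Subgroup G)
    (hH : Nat.card H = b) (hdvd : a ∣ Nat.card (centralizer (H : Set G))) :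
    ∃ g : G, orderOf g = a * b := by
  haveI := Fact.mk ha
  haveI := Fact.mk hb
  obtain ⟨⟨x, hx⟩, hxo⟩ := exists_prime_orderOf_dvd_card' (G := centralizer (H : Set G)) a hdvd
  obtain ⟨⟨y, hy⟩, hyo⟩ := exists_prime_orderOf_dvd_card' (G := H) b (by rw [hH])
  rw [orderOf_mk] at hxo hyo
  refine ⟨x * y, ?_⟩
  have hc : Commute x y := (mem_centralizer_iff.1 hx y hy).symm
  rw [hc.orderOf_mul_eq_mul_orderOf_of_coprime (by rw [hxo, hyo]; exact (Nat.coprime_primes ha hb).2 hab),
    hxo, hyo]

/-- a `p`-element normalising a subgroup of order a power of `r` without room to move -/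
theorem edge_of_normalizer {p r k : ℕ} (hp : p.Prime) (hr : r.Prime) (hpr : p ≠ r) {x : G}
    (hx : orderOf x = p) {R : Subgroup G} (hR : Nat.card R = r ^ k) (hmod : r ^ k % p ≠ 1)
    (hxR : x ∈ normalizer (R : Set G)) : ∃ g : G, orderOf g = r * p := by
  haveI := Fact.mk hp
  haveI := Fact.mk hr
  obtain ⟨C, hC, hCm, hcomm⟩ := fixed_mul (p := p) (H := zpowers x) (R := R)
    (IsPGroup.of_card (n := 1) (by rw [Nat.card_zpowers, hx, pow_one])) (zpowers x).subtype
    (fun h => (zpowers_le.2 hxR) h.2)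
  have hd : r ∣ Nat.card C := by
    obtain ⟨i, -, hi⟩ := (Nat.dvd_prime_pow hr).1 (hR ▸ card_dvd_of_le hC)
    rcases Nat.eq_zero_or_pos i with rfl | hi0
    · exfalso
      rw [hi, hR, pow_zero, Nat.one_mod_eq_one.2 hp.ne_one] at hCm
      exact hmod hCm.symm
    · rw [hi]; exact dvd_pow_self r hi0.ne'
  refine edge_of_centralizer hr hp (Ne.symm hpr) (zpowers x) (by rw [Nat.card_zpowers, hx])
    (hd.trans (card_dvd_of_le fun y hy => mem_centralizer_iff.2 fun z hz => hcomm ⟨z, hz⟩ y hy))

/-- `[N(H):C(H)]` divides `p - 1` for `|H| = p` -/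
theorem normalizer_centralizer {p : ℕ} (hp : p.Prime) (H : Subgroup G) (hH : Nat.card H = p) :
    ∃ k, k ∣ p - 1 ∧
      Nat.card (centralizer (H : Set G)) * k = Nat.card (normalizer (H : Set G)) := by
  haveI := Fact.mk hp
  haveI : IsCyclic H := isCyclic_of_prime_card hH
  refine ⟨(centralizer (H : Set G)).relIndex (normalizer (H : Set G)), ?_, ?_⟩
  · have h1 := Subgroup.card_range_dvd (normalizerMonoidHom H) |> fun _ =>
      (Subgroup.card_subgroup_dvd_card (normalizerMonoidHom H).range)
    rw [IsCyclic.card_mulAut, hH, Nat.totient_prime hp] at h1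
    rw [relIndex, ← normalizerMonoidHom_ker, index_ker]
    exact h1
  · have h := relIndex_mul_relIndex ⊥ (centralizer (H : Set G)) (normalizer (H : Set G)) bot_le
      (centralizer_le_normalizer _)
    rwa [relIndex_bot_left, relIndex_bot_left] at h

/-- Burnside's transfer test -/
theorem exists_complement {p : ℕ} [Fact p.Prime] (P : Sylow p G)
    (h : normalizer ((P : Subgroup G) : Set G) ≤ centralizer ((P : Subgroup G) : Set G)) :
    ∃ M : Subgroup G, M.Normal ∧ Nat.card M * Nat.card (P : Subgroup G) = Nat.card G ∧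
      commutator G ≤ M := by
  have hc := MonoidHom.ker_transferSylow_isComplement' P h
  refine ⟨_, inferInstance, hc.card_mul_card, ?_⟩
  rw [commutator_def, commutator_le]
  intro a _ b _
  rw [MonoidHom.mem_ker, map_commutatorElement, commutatorElement_eq_one_iff_commute]
  exact Subtype.ext (mem_centralizer_iff.1 (h (le_normalizer (SetLike.coe_mem _))) _
    (SetLike.coe_mem _))

theorem card_sylow_mul {p : ℕ} [Fact p.Prime] (P : Sylow p G) :
    Nat.card (normalizer ((P : Subgroup G) : Set G)) * Nat.card (Sylow p G) = Nat.card G := by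
  rw [P.card_eq_index_normalizer]
  exact card_mul_index _

theorem card_normalizer_inf {p : ℕ} [Fact p.Prime] (P : Sylow p G) (N : Subgroup G) [N.Normal]
    (hP : (P : Subgroup G) ≤ N) :
    Nat.card (normalizer ((P : Subgroup G) : Set G) ⊓ N : Subgroup G) * Nat.card (Sylow p G) =
      Nat.card N := by
  have htop : normalizer ((P : Subgroup G) : Set G) ⊔ N = ⊤ := P.normalizer_sup_eq_top' hP
  have h1 : N.relIndex (normalizer ((P : Subgroup G) : Set G)) = N.index := by
    rw [← relIndex_sup_right, htop, relIndex_top_right]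
  have h2 := relIndex_mul_relIndex ⊥ (normalizer ((P : Subgroup G) : Set G) ⊓ N)
    (normalizer ((P : Subgroup G) : Set G)) bot_le inf_le_left
  rw [relIndex_bot_left, relIndex_bot_left, inf_relIndex_left, h1] at h2
  refine Nat.eq_of_mul_eq_mul_left (Nat.pos_of_ne_zero N.index_ne_zero_of_finite) ?_
  calc N.index * (Nat.card (normalizer ((P : Subgroup G) : Set G) ⊓ N : Subgroup G) *
        Nat.card (Sylow p G)) = Nat.card (normalizer ((P : Subgroup G) : Set G)) *
        Nat.card (Sylow p G) := by rw [← h2]; ring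
    _ = N.index * Nat.card N := by rw [card_sylow_mul, ← N.card_mul_index, mul_comm]

/-- A Sylow subgroup of a normal subgroup, read inside it. -/
theorem inner_data {p : ℕ} [Fact p.Prime] (P : Sylow p G) (N : Subgroup G) (hP : (P : Subgroup G) ≤ N) :
    Nat.card ((P.subtype hP : Sylow p N) : Subgroup N) = Nat.card (P : Subgroup G) ∧
    Nat.card (normalizer (((P.subtype hP : Sylow p N) : Subgroup N) : Set N)) =
      Nat.card (normalizer ((P : Subgroup G) : Set G) ⊓ N : Subgroup G) := by
  have hcoe : ((P.subtype hP : Sylow p N) : Subgroup N) = (P : Subgroup G).subgroupOf N := rfl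
  refine ⟨by rw [hcoe]; exact Nat.card_congr (subgroupOfEquivOfLe hP).toEquiv, ?_⟩
  rw [hcoe, ← subgroupOf_normalizer_eq hP, ← inf_subgroupOf_right]
  exact Nat.card_congr (subgroupOfEquivOfLe inf_le_right).toEquiv

/-- a perfect group permutes evenly -/
theorem four_dvd_moved (hperf : commutator G = ⊤) {α : Type*} [Finite α] [MulAction G α] {t : G}
    (ht : t * t = 1) : 4 ∣ Nat.card α - Nat.card {a : α // t • a = a} := by
  classical
  haveI := Fintype.ofFinite α
  set σ := toPermHom G α t with hσ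
  have h2 : σ ^ 2 = 1 := by rw [sq, hσ, ← map_mul, ht, map_one]
  have h : Equiv.Perm.sign σ = 1 := by
    have hmem : t ∈ (Equiv.Perm.sign.comp (toPermHom G α)).ker :=
      Abelianization.commutator_subset_ker _ (hperf ▸ mem_top t)
    exact hmem
  rw [Equiv.Perm.sign_of_pow_two_eq_one h2] at h
  have hfix : Fintype.card (Function.fixedPoints σ) = Nat.card {a : α // t • a = a} := by
    rw [← Nat.card_eq_fintype_card]; rfl
  have hsum : (Fintype.card α - Fintype.card (Function.fixedPoints σ)) % 2 = 0 := by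
    have hc := Equiv.Perm.cycleType_of_pow_prime_eq_one (p := 2) h2
    rw [σ.card_fixedPoints, Nat.sub_sub_self σ.sum_cycleType_le, hc, Multiset.sum_replicate,
      smul_eq_mul, Nat.mul_mod_left]
  rw [Nat.card_eq_fintype_card (α := α), ← hfix]
  obtain ⟨k, hk⟩ : Even ((Fintype.card α - Fintype.card (Function.fixedPoints σ)) / 2) :=
    (neg_one_pow_eq_one_iff_even (by decide : (-1 : ℤˣ) ≠ 1)).1 h
  exact ⟨k, by omega⟩

/-- a Sylow subgroup of prime order from an element -/
theorem exists_sylow_zpowers {p : ℕ} [Fact p.Prime] {g : G} (hg : orderOf g = p)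
    (hp : (Nat.card G).factorization p = 1) : ∃ P : Sylow p G, (P : Subgroup G) = zpowers g :=
  have h : Nat.card (zpowers g) = p ^ (Nat.card G).factorization p := by
    rw [Nat.card_zpowers, hg, hp, pow_one]
  ⟨Sylow.ofCard (zpowers g) h, rfl⟩

/-! ## The groups of order 3960 -/

/-- The excluded configuration: perfect, faithful on 45 Sylow subgroups, `C(5) = 5`. -/
theorem false_of_perfect (hperf : commutator G = ⊤) [Fact (Nat.Prime 11)] (P : Sylow 11 G)
    (hP : Nat.card (P : Subgroup G) = 11) (hS : Nat.card (Sylow 11 G) = 45)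
    (hfaith : ∀ g : G, (∀ R : Sylow 11 G, g • R = R) → g = 1)
    (hNP : Nat.card (normalizer ((P : Subgroup G) : Set G)) = 88)
    (h10 : ∀ g : G, orderOf g ≠ 10) (h5 : 5 ∣ Nat.card G) : False := by
  classical
  set Nm := normalizer ((P : Subgroup G) : Set G) with hNm
  set C := centralizer ((P : Subgroup G) : Set G) with hC
  haveI : Fact (Nat.Prime 2) := ⟨Nat.prime_two⟩
  haveI : IsCyclic (P : Subgroup G) := isCyclic_of_prime_card hP
  have hPC : (P : Subgroup G) ≤ C := le_centralizer _
  have hCN : C ≤ Nm := centralizer_le_normalizer _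
  have hC44 : Nat.card C = 44 := by
    obtain ⟨k, hk, hmul⟩ := normalizer_centralizer (p := 11) (by norm_num) _ hP
    rw [← hC, ← hNm, hNP] at hmul
    have h11 : 11 ∣ Nat.card C := hP ▸ card_dvd_of_le hPC
    have key : ∀ k ∈ Nat.divisors 10, ∀ c ∈ Nat.divisors 88, c * k = 88 → 11 ∣ c → k = 1 ∨ c = 44 := by
      decide +kernel
    refine (key k (Nat.mem_divisors.2 ⟨hk, by norm_num⟩) _
      (Nat.mem_divisors.2 ⟨⟨k, hmul.symm⟩, by norm_num⟩) hmul h11).resolve_left fun h1 => ?_
    rw [h1, mul_one] at hmul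
    obtain ⟨M, -, hM, hle⟩ := exists_complement P
      (Subgroup.eq_of_le_of_card_ge hCN (hNP.trans hmul.symm).le).ge
    rw [hperf, top_le_iff] at hle
    rw [hle, card_top, hP] at hM
    have := Nat.card_pos (α := G)
    omega
  -- the other points
  let Om := {R : Sylow 11 G // R ≠ P}
  have hOm : Nat.card Om = 44 := by
    haveI := Fintype.ofFinite (Sylow 11 G)
    rw [Nat.card_eq_fintype_card, Fintype.card_subtype_compl, Fintype.card_subtype_eq,
      ← Nat.card_eq_fintype_card, hS]
  have hfixP : ∀ g ∈ Nm, g • P = P := fun g hg => Sylow.smul_eq_iff_mem_normalizer.2 hg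
  have hPmove : ∀ x ∈ (P : Subgroup G), x ≠ 1 → ∀ R : Sylow 11 G, x • R = R → R = P := by
    intro x hx hx1 R hR
    have hxo : orderOf x = 11 := by
      have h := orderOf_dvd_natCard (⟨x, hx⟩ : (P : Subgroup G))
      rw [orderOf_mk, hP] at h
      exact ((Nat.dvd_prime (by norm_num)).1 h).resolve_left fun e => hx1 (orderOf_eq_one_iff.1 e)
    have hxP : zpowers x = (P : Subgroup G) := eq_of_le_of_card_ge (zpowers_le.2 hx)
      (by rw [Nat.card_zpowers, hxo, hP])
    have hle : (P : Subgroup G) ≤ normalizer ((R : Subgroup G) : Set G) := by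
      rw [← hxP]; exact zpowers_le.2 (Sylow.smul_eq_iff_mem_normalizer.1 hR)
    have h2 : (P : Subgroup G) ⊔ (R : Subgroup G) = (R : Subgroup G) :=
      R.3 (IsPGroup.to_sup_of_normal_right' P.2 R.2 hle) le_sup_right
    exact Sylow.ext (P.3 R.2 (le_sup_left.trans h2.le))
  -- `C` acts freely on the other points
  have hfree2 : ∀ c ∈ C, c * c = 1 → ∀ R : Om, c • R.1 = R.1 → c = 1 := by
    intro c hc hcc R hR
    let S : SubMulAction (P : Subgroup G) (Sylow 11 G) :=
      { carrier := {Q | Q ≠ P ∧ c • Q = Q}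
        smul_mem' := by
          rintro x Q ⟨hQP, hQ⟩
          refine ⟨fun h => hQP ?_, ?_⟩
          · have h' : (x : G) • Q = P := h
            rw [← inv_smul_smul (x : G) Q, h', hfixP _ (le_normalizer (inv_mem x.2))]
          · show c • ((x : G) • Q) = (x : G) • Q
            rw [← mul_smul, ← mem_centralizer_iff.1 hc (x : G) x.2, mul_smul, hQ] }
    have hmod := P.2.card_modEq_card_fixedPoints S
    haveI hempty : IsEmpty (fixedPoints (P : Subgroup G) S) := ⟨fun ⟨Q, hQ⟩ => by
      haveI : Nontrivial (P : Subgroup G) :=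
        Finite.one_lt_card_iff_nontrivial.1 (by rw [hP]; norm_num)
      obtain ⟨⟨x, hx⟩, hx1⟩ := exists_ne (1 : (P : Subgroup G))
      exact Q.2.1 (hPmove x hx (fun e => hx1 (Subtype.ext e)) _
        (congrArg Subtype.val (hQ ⟨x, hx⟩)))⟩
    rw [Nat.card_of_isEmpty (α := fixedPoints (P : Subgroup G) S), Nat.modEq_zero_iff_dvd] at hmod
    have hall : Nat.card {Q : Sylow 11 G // c • Q = Q} = Nat.card S + 1 := by
      have e : {Q : Sylow 11 G | c • Q = Q} = insert P (S : Set (Sylow 11 G)) := by
        ext Q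
        by_cases h : Q = P
        · subst h; simp [hfixP c (hCN hc)]
        · simp only [Set.mem_insert_iff, h, false_or]
          exact ⟨fun hq => ⟨h, hq⟩, fun hq => hq.2⟩
      show Nat.card ({Q : Sylow 11 G | c • Q = Q} : Set (Sylow 11 G)) = _
      rw [e, Nat.card_coe_set_eq, Set.ncard_insert_of_notMem (fun h => h.1 rfl), ← Nat.card_coe_set_eq]
      rfl
    have h4 := four_dvd_moved hperf (α := Sylow 11 G) hcc
    rw [hS, hall] at h4
    have hpos : 0 < Nat.card S := by
      haveI : Nonempty S := ⟨⟨R.1, R.2, hR⟩⟩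
      exact Nat.card_pos
    have hle : Nat.card S ≤ 44 := hOm ▸ Nat.card_le_card_of_injective
      (fun Q : S => (⟨Q.1, Q.2.1⟩ : Om)) fun _ _ e => Subtype.ext (congrArg (fun Q : Om => Q.1) e)
    have key : ∀ s ∈ Finset.range 45, 0 < s → 11 ∣ s → 4 ∣ 45 - (s + 1) → s = 44 := by decide +kernel
    have h44 := key _ (Finset.mem_range.2 (by omega)) hpos hmod h4
    refine hfaith c fun Q => ?_
    by_cases hQ : Q = P
    · rw [hQ]; exact hfixP c (hCN hc)
    obtain ⟨Q', hQ'⟩ := ((Nat.bijective_iff_injective_and_card (fun Q : S => (⟨Q.1, Q.2.1⟩ : Om))).2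
      ⟨fun _ _ e => Subtype.ext (congrArg (fun Q : Om => Q.1) e), h44.trans hOm.symm⟩).2 ⟨Q, hQ⟩
    have e : Q'.1 = Q := congrArg Subtype.val hQ'
    exact e ▸ Q'.2.2
  have hfree : ∀ c ∈ C, ∀ R : Om, c • R.1 = R.1 → c = 1 := by
    intro c hc R hR
    by_contra hc1
    have hpow : ∀ i : ℕ, c ^ i • R.1 = R.1 := fun i => by
      induction i with
      | zero => rw [pow_zero, one_smul]
      | succ i ih => rw [pow_succ, mul_smul, hR, ih]
    have ho := orderOf_dvd_natCard (⟨c, hc⟩ : C)
    rw [orderOf_mk, hC44] at ho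
    have key : ∀ o ∈ Nat.divisors 44, o ≠ 1 → 2 ∣ o ∨ o = 11 := by decide +kernel
    rcases key _ (Nat.mem_divisors.2 ⟨ho, by norm_num⟩) (fun e => hc1 (orderOf_eq_one_iff.1 e))
      with h2 | h11
    · have hi : orderOf (c ^ (orderOf c / 2)) = 2 := orderOf_pow_orderOf_div (orderOf_pos c).ne' h2
      have h1 : c ^ (orderOf c / 2) = 1 := hfree2 _ (pow_mem hc _)
        (by rw [← pow_two]; exact (congrArg _ hi.symm).trans (pow_orderOf_eq_one _)) R (hpow _)
      rw [h1, orderOf_one] at hi
      norm_num at hi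
    · haveI hn : ((P : Subgroup G).subgroupOf C).Normal :=
        normal_subgroupOf_of_le_normalizer hCN
      obtain ⟨Pc, hPc⟩ := IsPGroup.exists_le_sylow (p := 11) (P := zpowers c)
        (IsPGroup.of_card (n := 1) (by rw [Nat.card_zpowers, h11, pow_one]))
      have hcnorm : c ∈ normalizer ((P : Subgroup G) : Set G) := hCN hc
      have h2 : zpowers c ⊔ (P : Subgroup G) = (P : Subgroup G) :=
        P.3 (IsPGroup.to_sup_of_normal_right' (IsPGroup.of_card (n := 1)
          (by rw [Nat.card_zpowers, h11, pow_one])) P.2 (zpowers_le.2 hcnorm)) le_sup_right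
      have hcP : c ∈ (P : Subgroup G) := h2 ▸ mem_sup_left (mem_zpowers c)
      exact R.2 (hPmove c hcP hc1 R.1 hR)
  -- hence simply transitively
  have hmem : ∀ g ∈ Nm, ∀ R : Om, g • R.1 ≠ P := fun g hg R e => R.2 (by
    rw [← inv_smul_smul g R.1, e, hfixP _ (inv_mem hg)])
  have htrans : ∀ R R' : Om, ∃ c ∈ C, c • R.1 = R'.1 := by
    intro R R'
    let f : C → Om := fun c => ⟨(c : G) • R.1, hmem _ (hCN c.2) R⟩
    have hf : Function.Injective f := by
      intro a b e
      have e' : (a : G) • R.1 = (b : G) • R.1 := congrArg Subtype.val e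
      have h1 := hfree ((b : G)⁻¹ * a) (mul_mem (inv_mem b.2) a.2) R (by
        rw [mul_smul, e', inv_smul_smul])
      exact Subtype.ext (inv_mul_eq_one.1 h1).symm
    obtain ⟨c, hc⟩ := ((Nat.bijective_iff_injective_and_card f).2 ⟨hf, hC44.trans hOm.symm⟩).2 R'
    exact ⟨c, c.2, congrArg Subtype.val hc⟩
  obtain ⟨R₀⟩ : Nonempty Om := (Nat.card_pos_iff.1 (by rw [hOm]; norm_num)).1
  -- the two-point stabilizer
  have hstab : ∀ R : Om, Nat.card (Nm ⊓ stabilizer G R.1 : Subgroup G) = 2 := by
    intro R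
    letI : MulAction Nm Om :=
      { smul := fun g Q => ⟨(g : G) • Q.1, hmem _ g.2 Q⟩
        one_smul := fun Q => Subtype.ext (one_smul G Q.1)
        mul_smul := fun g h Q => Subtype.ext (mul_smul (g : G) h Q.1) }
    haveI : IsPretransitive Nm Om := ⟨fun Q Q' => by
      obtain ⟨c, hc, hcQ⟩ := htrans Q Q'
      exact ⟨⟨c, hCN hc⟩, Subtype.ext hcQ⟩⟩
    have h := MulAction.index_stabilizer_of_transitive Nm R
    have h2 := card_mul_index (stabilizer Nm R)
    rw [h, hOm, hNP] at h2
    have : Nat.card (Nm ⊓ stabilizer G R.1 : Subgroup G) = Nat.card (stabilizer Nm R) := Nat.card_congr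
      { toFun := fun g => ⟨⟨g.1, g.2.1⟩, Subtype.ext g.2.2⟩
        invFun := fun g => ⟨g.1.1, g.1.2, congrArg Subtype.val g.2⟩
        left_inv := fun g => rfl
        right_inv := fun g => rfl }
    omega
  obtain ⟨⟨y, hy⟩, hyo⟩ := exists_prime_orderOf_dvd_card'
    (G := (Nm ⊓ stabilizer G R₀.1 : Subgroup G)) 2 (by rw [hstab])
  rw [orderOf_mk] at hyo
  have hyy : y * y = 1 := by rw [← pow_two, ← hyo, pow_orderOf_eq_one]
  have hy1 : y ≠ 1 := fun e => by rw [e, orderOf_one] at hyo; norm_num at hyo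
  -- its fixed points
  let Cy : Subgroup G := C ⊓ centralizer ({y} : Set G)
  have hΦ : Nat.card {Q : Sylow 11 G // y • Q = Q} = Nat.card Cy + 1 := by
    have h1 : Nat.card {Q : Om // y • Q.1 = Q.1} = Nat.card Cy := by
      refine (Nat.card_eq_of_bijective (fun c : Cy => (⟨⟨(c : G) • R₀.1, hmem _ (hCN c.2.1) R₀⟩, by
        show y • ((c : G) • R₀.1) = (c : G) • R₀.1
        have hyc : y * (c : G) = (c : G) * y := mem_centralizer_singleton_iff.1 c.2.2 |> fun e => e.symm
        rw [← mul_smul, hyc, mul_smul, hy.2]⟩ : {Q : Om // y • Q.1 = Q.1})) ⟨?_, ?_⟩).symm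
      · intro a b e
        have e' : (a : G) • R₀.1 = (b : G) • R₀.1 := congrArg (fun Q : {Q : Om // y • Q.1 = Q.1} => Q.1.1) e
        have h1 := hfree ((b : G)⁻¹ * a) (mul_mem (inv_mem b.2.1) a.2.1) R₀ (by
          rw [mul_smul, e', inv_smul_smul])
        exact Subtype.ext (inv_mul_eq_one.1 h1).symm
      · rintro ⟨Q, hQ⟩
        obtain ⟨c, hc, hcQ⟩ := htrans R₀ Q
        have hyc : y * c * y⁻¹ ∈ C := by
          refine mem_centralizer_iff.2 fun x hx => ?_
          have h2 := mem_centralizer_iff.1 hc _ ((mem_normalizer_iff.1 (inv_mem hy.1) x).1 hx)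
          calc x * (y * c * y⁻¹) = y * ((y⁻¹ * x * y⁻¹⁻¹) * c) * y⁻¹ := by group
            _ = y * (c * (y⁻¹ * x * y⁻¹⁻¹)) * y⁻¹ := by rw [h2]
            _ = y * c * y⁻¹ * x := by group
        have h2 := hfree (c⁻¹ * (y * c * y⁻¹)) (mul_mem (inv_mem hc) hyc) R₀ (by
          rw [mul_smul, mul_smul, inv_smul_eq_iff, mul_smul, show y⁻¹ • R₀.1 = R₀.1 by
            rw [inv_smul_eq_iff]; exact hy.2.symm, hcQ]
          exact hQ)
        refine ⟨⟨c, hc, mem_centralizer_singleton_iff.2 ?_⟩, Subtype.ext (Subtype.ext hcQ)⟩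
        exact (mul_inv_eq_iff_eq_mul.1 (inv_mul_eq_one.1 h2).symm).symm
    have e : {Q : Sylow 11 G | y • Q = Q} = insert P {Q | Q ≠ P ∧ y • Q = Q} := by
      ext Q
      by_cases h : Q = P
      · subst h; simp [hfixP y hy.1]
      · simp [h]
    show Nat.card ({Q : Sylow 11 G | y • Q = Q} : Set (Sylow 11 G)) = _
    rw [e, Nat.card_coe_set_eq, Set.ncard_insert_of_notMem (fun h => h.1 rfl), ← Nat.card_coe_set_eq,
      ← h1]
    congr 1
    exact Nat.card_congr
      { toFun := fun Q => ⟨⟨Q.1, Q.2.1⟩, Q.2.2⟩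
        invFun := fun Q => ⟨Q.1.1, Q.1.2, Q.2⟩
        left_inv := fun _ => rfl
        right_inv := fun _ => rfl }
  have hCy : Nat.card Cy = 4 := by
    have h44 : Nat.card Cy ∣ 44 := hC44 ▸ card_dvd_of_le inf_le_left
    have h11 : ¬ 11 ∣ Nat.card Cy := by
      intro hd
      obtain ⟨⟨x, hx⟩, hxo⟩ := exists_prime_orderOf_dvd_card' (G := Cy) 11 hd
      rw [orderOf_mk] at hxo
      have h2 : zpowers x ⊔ (P : Subgroup G) = (P : Subgroup G) :=
        P.3 (IsPGroup.to_sup_of_normal_right' (IsPGroup.of_card (n := 1)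
          (by rw [Nat.card_zpowers, hxo, pow_one])) P.2 (zpowers_le.2 (hCN hx.1))) le_sup_right
      have hxP : x ∈ (P : Subgroup G) := h2 ▸ mem_sup_left (mem_zpowers x)
      have hx1 : x ≠ 1 := fun e => by rw [e, orderOf_one] at hxo; norm_num at hxo
      have hxy : x * y = y * x := mem_centralizer_singleton_iff.1 hx.2
      have hyC : y ∈ C := by
        rw [hC, ← eq_of_le_of_card_ge (zpowers_le.2 hxP) (by rw [Nat.card_zpowers, hxo, hP]),
          zpowers_eq_closure, centralizer_closure]
        exact mem_centralizer_singleton_iff.2 hxy.symm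
      exact hy1 (hfree2 y hyC hyy R₀ hy.2)
    have h4 := four_dvd_moved hperf (α := Sylow 11 G) hyy
    rw [hS, hΦ] at h4
    have key : ∀ c ∈ Nat.divisors 44, ¬ 11 ∣ c → 4 ∣ 45 - (c + 1) → c = 4 := by decide +kernel
    exact key _ (Nat.mem_divisors.2 ⟨h44, by norm_num⟩) h11 h4
  -- `C(y)` is transitive on the five fixed points
  haveI : IsPretransitive G (Sylow 11 G) := inferInstance
  set D := centralizer ({y} : Set G) with hD
  have hget : ∀ R' : Sylow 11 G, y • R' = R' → R' ≠ P → ∃ g ∈ D, g • P = R' := by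
    intro R' hR' hne
    obtain ⟨g, hg⟩ := exists_smul_eq G P R'
    have hne' : g⁻¹ • P ≠ P := fun e => hne (hg.symm.trans (inv_smul_eq_iff.1 e).symm)
    obtain ⟨c, hc, hcR⟩ := htrans R₀ ⟨g⁻¹ • P, hne'⟩
    refine ⟨g * c, ?_, by rw [mul_smul, hfixP c (hCN hc), hg]⟩
    set k := g * c
    have hk1 : k • P = R' := by rw [mul_smul, hfixP c (hCN hc), hg]
    have hk2 : k • R₀.1 = P := by rw [mul_smul, hcR, smul_inv_smul]
    have hy' : k * y * k⁻¹ ∈ (Nm ⊓ stabilizer G (⟨R', hne⟩ : Om).1 : Subgroup G) := by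
      refine ⟨Sylow.smul_eq_iff_mem_normalizer.1 ?_, ?_⟩
      · rw [mul_smul, mul_smul, ← hk2, inv_smul_smul]
        show k • y • R₀.1 = k • R₀.1
        rw [hy.2]
      · show (k * y * k⁻¹) • R' = R'
        rw [mul_smul, mul_smul, ← hk1, inv_smul_smul, hfixP y hy.1]
    have hyR : y ∈ (Nm ⊓ stabilizer G (⟨R', hne⟩ : Om).1 : Subgroup G) := ⟨hy.1, hR'⟩
    have hcard := hstab ⟨R', hne⟩
    rw [Nat.card_eq_two_iff] at hcard
    have huniq : k * y * k⁻¹ = y := by
      have hk1' : k * y * k⁻¹ ≠ 1 := fun e => hy1 (by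
        rw [mul_inv_eq_one] at e; exact mul_left_cancel (e.trans (mul_one k).symm))
      obtain ⟨u, v, huv, huniv⟩ := hcard
      have hall : ∀ w : (Nm ⊓ stabilizer G (⟨R', hne⟩ : Om).1 : Subgroup G), w = u ∨ w = v := fun w => by
        have := Set.mem_univ w; rw [← huniv] at this; simpa using this
      rcases hall ⟨_, hy'⟩ with h | h <;> rcases hall ⟨_, hyR⟩ with h' | h' <;>
        rcases hall 1 with h'' | h'' <;>
        first
          | exact congrArg Subtype.val (h.trans h'.symm)
          | exact absurd (congrArg Subtype.val (h.trans h''.symm)) hk1'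
          | exact absurd (congrArg Subtype.val (h'.trans h''.symm)) hy1
    exact mem_centralizer_singleton_iff.2 (mul_inv_eq_iff_eq_mul.1 huniq)
  have h5D : 5 ∣ Nat.card D := by
    have horb : Nat.card (orbit D P) = 5 := by
      rw [← (show Nat.card {Q : Sylow 11 G // y • Q = Q} = 5 by rw [hΦ, hCy])]
      refine Nat.card_congr (Equiv.subtypeEquivRight fun Q => ⟨?_, fun hQ => ?_⟩)
      · rintro ⟨⟨g, hg⟩, rfl⟩
        show y • (g • P) = g • P
        rw [← mul_smul, ← mem_centralizer_singleton_iff.1 hg, mul_smul, hfixP y hy.1]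
      · by_cases h : Q = P
        · rw [h]; exact mem_orbit_self P
        · obtain ⟨g, hg, hgP⟩ := hget Q hQ h
          exact ⟨⟨g, hg⟩, hgP⟩
    have h := Nat.card_congr (orbitProdStabilizerEquivGroup D P)
    rw [Nat.card_prod, horb] at h
    exact ⟨_, h.symm⟩
  haveI : Fact (Nat.Prime 5) := ⟨by norm_num⟩
  obtain ⟨g, hg⟩ := edge_of_centralizer (a := 5) (b := 2) (by norm_num) (by norm_num) (by norm_num)
    (zpowers y) (by rw [Nat.card_zpowers, hyo])
    (by rwa [zpowers_eq_closure, centralizer_closure])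
  exact h10 g hg

/-! ## Groups of order 7920 -/

theorem factorization_eq {p n k : ℕ} (hp : p.Prime) (hn : n ≠ 0) (h : p ^ k ∣ n) (h' : ¬ p ^ (k + 1) ∣ n) :
    n.factorization p = k := by
  rw [hp.pow_dvd_iff_le_factorization hn] at h h'
  omega

theorem no_self_central (hperf : commutator G = ⊤) {p : ℕ} [Fact p.Prime] (R : Sylow p G)
    (hR : 1 < Nat.card (R : Subgroup G))
    (h : normalizer ((R : Subgroup G) : Set G) ≤ centralizer ((R : Subgroup G) : Set G)) : False := by
  obtain ⟨M, -, hM, hle⟩ := exists_complement R h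
  rw [hperf, top_le_iff] at hle
  rw [hle, card_top] at hM
  have hpos := Nat.card_pos (α := G)
  have : Nat.card G * 1 < Nat.card G * Nat.card (R : Subgroup G) :=
    Nat.mul_lt_mul_of_pos_left hR hpos
  omega

theorem le_centralizer_of_card {p : ℕ} [Fact p.Prime] (R : Sylow p G)
    (hR : Nat.card (R : Subgroup G) = p)
    (h : Nat.card (normalizer ((R : Subgroup G) : Set G)) = p) :
    normalizer ((R : Subgroup G) : Set G) ≤ centralizer ((R : Subgroup G) : Set G) := by
  haveI : IsCyclic (R : Subgroup G) := isCyclic_of_prime_card hR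
  have : (R : Subgroup G) = normalizer ((R : Subgroup G) : Set G) :=
    eq_of_le_of_card_ge le_normalizer (by rw [h, hR])
  rw [← this]
  exact le_centralizer _

theorem sylow_le_normal {p : ℕ} [Fact p.Prime] (P : Sylow p G) (N : Subgroup G) [N.Normal]
    (h : ¬ p ∣ N.index) : (P : Subgroup G) ≤ N := by
  intro x hx
  rw [← QuotientGroup.eq_one_iff]
  obtain ⟨i, hi⟩ := P.2 ⟨x, hx⟩
  have hi' : x ^ p ^ i = 1 := congrArg Subtype.val hi
  have hdvd := orderOf_dvd_of_pow_eq_one (x := (x : G ⧸ N)) (by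
    rw [← QuotientGroup.mk_pow, hi']; rfl)
  refine orderOf_eq_one_iff.1 (Nat.eq_one_of_dvd_coprimes ?_ hdvd (orderOf_dvd_natCard _))
  exact Nat.Coprime.pow_left _ ((Fact.out : p.Prime).coprime_iff_not_dvd.2 h)

theorem sylow_le_of_dvd {p : ℕ} [hp : Fact p.Prime] (hp1 : ¬ p * p ∣ Nat.card G) (P : Sylow p G)
    (N : Subgroup G) [N.Normal] (h : p ∣ Nat.card N) : (P : Subgroup G) ≤ N :=
  sylow_le_normal P N fun hd => hp1 (N.card_mul_index ▸ Nat.mul_dvd_mul h hd)

/-- Frattini: some element of order `p` normalises a Sylow `r`-subgroup of `N` -/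
theorem frattini (N : Subgroup G) [N.Normal] {p : ℕ} (hp : p.Prime) (hpN : ¬ p ∣ Nat.card N)
    (hpG : p ∣ Nat.card G) {r : ℕ} (hr : r.Prime) :
    ∃ R : Subgroup G, R ≤ N ∧ Nat.card R = r ^ (Nat.card N).factorization r ∧
      ∃ x : G, orderOf x = p ∧ x ∈ normalizer (R : Set G) := by
  haveI := Fact.mk hr
  haveI := Fact.mk hp
  obtain ⟨R₀⟩ : Nonempty (Sylow r N) := inferInstance
  refine ⟨(R₀ : Subgroup N).map N.subtype, map_subtype_le _, ?_, ?_⟩
  · rw [card_map_of_injective N.subtype_injective]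
    exact R₀.card_eq_multiplicity
  · have htop := Sylow.normalizer_sup_eq_top R₀
    set H := normalizer (((R₀ : Subgroup N).map N.subtype : Subgroup G) : Set G) with hH
    have htop' : H ⊔ N = ⊤ := htop
    have h1 : N.relIndex H = N.index := by rw [← relIndex_sup_right, htop', relIndex_top_right]
    have h2 : N.index ∣ Nat.card H := h1 ▸ relIndex_dvd_card N H
    have h3 : p ∣ Nat.card H := by
      refine dvd_trans ?_ h2
      rw [← N.card_mul_index] at hpG
      exact (hp.dvd_mul.1 hpG).resolve_left hpN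
    obtain ⟨⟨x, hx⟩, hxo⟩ := exists_prime_orderOf_dvd_card' (G := H) p h3
    rw [orderOf_mk] at hxo
    exact ⟨x, hxo, hx⟩

/-- a set of primes with no edges leaving it -/
def Compat (G : Type*) [Group G] (A : Set ℕ) : Prop :=
  ∀ a ∈ A, ∀ b ∉ A, a.Prime → b.Prime → a ∣ Nat.card G → b ∣ Nat.card G → ¬ ∃ g : G, orderOf g = a * b

/-- linked primes are on the same side -/
def Linked (G : Type*) [Group G] (a b : ℕ) : Prop :=
  ∀ A : Set ℕ, Compat G A → (a ∈ A ↔ b ∈ A)

omit [Finite G] in
theorem Linked.trans {a b c : ℕ} (h : Linked G a b) (h' : Linked G b c) : Linked G a c :=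
  fun A hA => (h A hA).trans (h' A hA)

omit [Finite G] in
theorem Linked.symm {a b : ℕ} (h : Linked G a b) : Linked G b a := fun A hA => (h A hA).symm

theorem linked_of_edge {a b : ℕ} (ha : a.Prime) (hb : b.Prime)
    (h : ∃ g : G, orderOf g = a * b) : Linked G a b := by
  intro A hA
  obtain ⟨g, hg⟩ := h
  have hd : a * b ∣ Nat.card G := hg ▸ orderOf_dvd_natCard g
  have ha' := (dvd_mul_right a b).trans hd
  have hb' := (dvd_mul_left b a).trans hd
  constructor
  · intro haA
    by_contra hbA
    exact hA a haA b hbA ha hb ha' hb' ⟨g, hg⟩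
  · intro hbA
    by_contra haA
    exact hA b hbA a haA hb ha hb' ha' ⟨g, hg.trans (mul_comm a b)⟩

variable (hord : Nat.card G = 7920)

include hord

theorem sylow_five_card [Fact (Nat.Prime 5)] (Q : Sylow 5 G) : Nat.card (Q : Subgroup G) = 5 := by
  rw [Q.card_eq_multiplicity, hord,
    factorization_eq (k := 1) (by norm_num) (by norm_num) (by norm_num) (by norm_num), pow_one]

theorem sylow_eleven_card [Fact (Nat.Prime 11)] (Q : Sylow 11 G) : Nat.card (Q : Subgroup G) = 11 := by
  rw [Q.card_eq_multiplicity, hord,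
    factorization_eq (k := 1) (by norm_num) (by norm_num) (by norm_num) (by norm_num), pow_one]

theorem eleven_count [Fact (Nat.Prime 11)] :
    Nat.card (Sylow 11 G) = 1 ∨ Nat.card (Sylow 11 G) = 12 ∨ Nat.card (Sylow 11 G) = 45 ∨
      Nat.card (Sylow 11 G) = 144 := by
  obtain ⟨P⟩ : Nonempty (Sylow 11 G) := inferInstance
  have hi : (P : Subgroup G).index = 720 := by
    have h := (P : Subgroup G).card_mul_index
    rw [sylow_eleven_card hord P, hord] at h
    omega
  have hd : Nat.card (Sylow 11 G) ∣ 720 := hi ▸ P.card_dvd_index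
  have hm : Nat.card (Sylow 11 G) % 11 = 1 := card_sylow_modEq_one 11 G
  have key : ∀ n ∈ Nat.divisors 720, n % 11 = 1 → n = 1 ∨ n = 12 ∨ n = 45 ∨ n = 144 := by
    decide +kernel
  exact key _ (Nat.mem_divisors.2 ⟨hd, by norm_num⟩) hm

/-- the Sylow subgroups of `N` are centralised by an element of order eleven -/
theorem exists_centralized [Fact (Nat.Prime 11)] (N : Subgroup G) [N.Normal]
    (hN : ¬ 11 ∣ Nat.card N) {r : ℕ} (hr : r.Prime) :
    ∃ Q : Sylow 11 G,
      r ^ (Nat.card N).factorization r ∣ Nat.card (centralizer ((Q : Subgroup G) : Set G)) := by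
  obtain ⟨R, hRN, hR, x, hx, hxR⟩ := frattini N (p := 11) (by norm_num) hN (by rw [hord]; norm_num) hr
  obtain ⟨Q, hQ⟩ := exists_sylow_zpowers hx (by
    rw [hord]; exact factorization_eq (k := 1) (by norm_num) (by norm_num) (by norm_num) (by norm_num))
  refine ⟨Q, ?_⟩
  obtain ⟨C, hC, hCm, hcomm⟩ := fixed_mul (p := 11) (H := zpowers x) (R := R)
    (IsPGroup.of_card (n := 1) (by rw [Nat.card_zpowers, hx, pow_one])) (zpowers x).subtype
    (fun h => (zpowers_le.2 hxR) h.2)
  have hR7 : Nat.card R ∣ 720 := by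
    have h1 : Nat.card R ∣ 11 * 720 := by
      rw [show 11 * 720 = Nat.card G by rw [hord]]; exact card_subgroup_dvd_card R
    exact (((Nat.Prime.coprime_iff_not_dvd (by norm_num)).2
      (fun h => hN (h.trans (card_dvd_of_le hRN)))).symm).dvd_of_dvd_mul_left h1
  have hppow : Nat.card R = 1 ∨ IsPrimePow (Nat.card R) := by
    rcases Nat.eq_zero_or_pos ((Nat.card N).factorization r) with h | h
    · exact Or.inl (by rw [hR, h, pow_zero])
    · exact Or.inr ⟨r, _, hr.prime, h, hR.symm⟩
  have hle : Nat.card R = Nat.card C := by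
    have key : ∀ s ∈ ([1, 2, 4, 8, 16, 3, 9, 5] : List ℕ), ∀ d ∈ Nat.divisors s,
        d % 11 = s % 11 → s = d := by decide +kernel
    have key2 : ∀ s ∈ Nat.divisors 720, (s = 1 ∨ IsPrimePow s) →
        s ∈ ([1, 2, 4, 8, 16, 3, 9, 5] : List ℕ) := by
      intro s hs h
      rcases h with rfl | h
      · simp
      · rw [isPrimePow_nat_iff_bounded] at h
        have key3 : ∀ s ∈ Nat.divisors 720, (2 ∣ s ∧ (3 ∣ s ∨ 5 ∣ s)) ∨ (3 ∣ s ∧ 5 ∣ s) ∨
            s ∈ ([1, 2, 4, 8, 16, 3, 9, 5] : List ℕ) := by decide +kernel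
        rcases key3 s hs with ⟨h2, h3⟩ | ⟨h3, h5⟩ | h'
        · exfalso
          obtain ⟨q, -, k, -, hq, -, rfl⟩ := h
          have e2 := (Nat.prime_dvd_prime_iff_eq Nat.prime_two hq).1 (Nat.prime_two.dvd_of_dvd_pow h2)
          rcases h3 with h3 | h3
          · have e3 := (Nat.prime_dvd_prime_iff_eq Nat.prime_three hq).1
              (Nat.prime_three.dvd_of_dvd_pow h3)
            omega
          · have e5 := (Nat.prime_dvd_prime_iff_eq (by norm_num) hq).1
              ((show Nat.Prime 5 by norm_num).dvd_of_dvd_pow h3)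
            omega
        · exfalso
          obtain ⟨q, -, k, -, hq, -, rfl⟩ := h
          have e3 := (Nat.prime_dvd_prime_iff_eq Nat.prime_three hq).1
            (Nat.prime_three.dvd_of_dvd_pow h3)
          have e5 := (Nat.prime_dvd_prime_iff_eq (by norm_num) hq).1
            ((show Nat.Prime 5 by norm_num).dvd_of_dvd_pow h5)
          omega
        · exact h'
    exact key _ (key2 _ (Nat.mem_divisors.2 ⟨hR7, by norm_num⟩) hppow) _
      (Nat.mem_divisors.2 ⟨card_dvd_of_le hC, Nat.card_pos.ne'⟩) hCm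
  rw [← hR, hle, hQ]
  exact card_dvd_of_le fun y hy => mem_centralizer_iff.2 fun z hz => hcomm ⟨z, hz⟩ y hy

/-- a normal subgroup of order prime to eleven is small -/
theorem card_dvd_normalizer [Fact (Nat.Prime 11)] (N : Subgroup G) [N.Normal]
    (hN : ¬ 11 ∣ Nat.card N) : Nat.card N * Nat.card (Sylow 11 G) ∣ 7920 := by
  obtain ⟨P⟩ : Nonempty (Sylow 11 G) := inferInstance
  rw [← hord, ← card_sylow_mul P]
  refine Nat.mul_dvd_mul_right ?_ _
  rw [← Nat.factorization_prime_le_iff_dvd Nat.card_pos.ne' Nat.card_pos.ne']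
  intro r hr
  obtain ⟨Q, hQ⟩ := exists_centralized hord N hN hr
  have h1 := hQ.trans (card_dvd_of_le (centralizer_le_normalizer ((Q : Subgroup G) : Set G)))
  have h2 : Nat.card (normalizer ((Q : Subgroup G) : Set G)) =
      Nat.card (normalizer ((P : Subgroup G) : Set G)) :=
    Nat.eq_of_mul_eq_mul_right (Nat.card_pos (α := Sylow 11 G))
      ((card_sylow_mul Q).trans (card_sylow_mul P).symm)
  rw [h2] at h1
  exact (hr.pow_dvd_iff_le_factorization Nat.card_pos.ne').1 h1

/-- the cases of one or twelve Sylow subgroups -/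
theorem linked_of_small [Fact (Nat.Prime 11)]
    (h : Nat.card (Sylow 11 G) = 1 ∨ Nat.card (Sylow 11 G) = 12) :
    Linked G 2 3 ∧ Linked G 2 5 ∧ Linked G 2 11 := by
  obtain ⟨P⟩ : Nonempty (Sylow 11 G) := inferInstance
  set H := normalizer ((P : Subgroup G) : Set G) with hH
  set C := centralizer ((P : Subgroup G) : Set G) with hC
  have hP := sylow_eleven_card hord P
  obtain ⟨k, hk, hmul⟩ := normalizer_centralizer (p := 11) (by norm_num) _ hP
  rw [← hC, ← hH] at hmul
  have hm : Nat.card H * Nat.card (Sylow 11 G) = 7920 := (card_sylow_mul P).trans hord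
  have hH' : Nat.card H = 7920 ∨ Nat.card H = 660 := by
    rcases h with h | h <;> rw [h] at hm <;> omega
  have key : ∀ m ∈ [7920, 660], ∀ k ∈ Nat.divisors 10, k ∣ m → 2 ∣ m / k ∧ 3 ∣ m / k ∧
      (m / k).factorization 3 ≤ 2 ∧ 5 ∣ m := by
    intro m hm k hk hkm
    have key' : ∀ m ∈ [7920, 660], ∀ k ∈ Nat.divisors 10, k ∣ m →
        2 ∣ m / k ∧ 3 ∣ m / k ∧ ¬ 27 ∣ m / k ∧ 5 ∣ m ∧ 0 < m / k := by decide +kernel
    obtain ⟨h2, h3, h27, h5, hpos⟩ := key' m hm k hk hkm
    refine ⟨h2, h3, ?_, h5⟩
    by_contra hlt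
    exact h27 ((Nat.prime_three.pow_dvd_iff_le_factorization hpos.ne').2 (by omega : 3 ≤ _))
  have hk0 : 0 < k := Nat.pos_of_dvd_of_pos hk (by norm_num)
  have hCk : Nat.card C = Nat.card H / k := by rw [← hmul, Nat.mul_div_cancel _ hk0]
  obtain ⟨h2, h3, h27, h5⟩ := key (Nat.card H) (by rcases hH' with e | e <;> simp [e]) k
    (Nat.mem_divisors.2 ⟨hk, by norm_num⟩) ⟨_, hmul.symm.trans (mul_comm _ _)⟩
  rw [← hCk] at h2 h3 h27
  have l2 : Linked G 2 11 := linked_of_edge (by norm_num) (by norm_num)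
    (edge_of_centralizer (by norm_num) (by norm_num) (by norm_num) _ hP h2)
  have l3 : Linked G 3 11 := linked_of_edge (by norm_num) (by norm_num)
    (edge_of_centralizer (by norm_num) (by norm_num) (by norm_num) _ hP h3)
  refine ⟨l2.trans l3.symm, ?_, l2⟩
  by_cases h5C : 5 ∣ Nat.card C
  · exact l2.trans (linked_of_edge (by norm_num) (by norm_num)
      (edge_of_centralizer (by norm_num) (by norm_num) (by norm_num) _ hP h5C)).symm
  -- an element of order five normalises a Sylow 3-subgroup of `C`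
  haveI : (C.subgroupOf H).Normal := Subgroup.normalizerMonoidHom_ker (H := (P : Subgroup G)) ▸
    (inferInstance : (normalizerMonoidHom (P : Subgroup G)).ker.Normal)
  have hcard : Nat.card (C.subgroupOf H) = Nat.card C :=
    Nat.card_congr (subgroupOfEquivOfLe (centralizer_le_normalizer _)).toEquiv
  obtain ⟨R, -, hR, x, hx, hxR⟩ := frattini (C.subgroupOf H) (p := 5) (by norm_num)
    (by rwa [hcard]) h5 Nat.prime_three
  rw [hcard] at hR
  have h1 : 1 ≤ (Nat.card C).factorization 3 :=
    (Nat.prime_three.pow_dvd_iff_le_factorization Nat.card_pos.ne').1 (by rwa [pow_one])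
  obtain ⟨g, hg⟩ := edge_of_normalizer (p := 5) (by norm_num) Nat.prime_three (by norm_num) hx hR
    (by interval_cases (Nat.card C).factorization 3 <;> norm_num) hxR
  exact (l2.trans l3.symm).trans (linked_of_edge (by norm_num) (by norm_num)
    ⟨(g : G), by rw [← hg]; exact orderOf_injective H.subtype H.subtype_injective g⟩)

/-- five when there are 45 Sylow 11-subgroups -/
theorem five_cases [Fact (Nat.Prime 11)] [Fact (Nat.Prime 5)] (h45 : Nat.card (Sylow 11 G) = 45) :
    Linked G 2 11 ∧ ((Linked G 2 3 ∧ Linked G 2 5) ∨ Nat.card (Sylow 5 G) = 396) := by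
  obtain ⟨P⟩ : Nonempty (Sylow 11 G) := inferInstance
  have hN : ∀ Q : Sylow 11 G, Nat.card (normalizer ((Q : Subgroup G) : Set G)) = 176 := fun Q => by
    have h := card_sylow_mul Q
    rw [h45, hord] at h
    omega
  constructor
  · obtain ⟨k, hk, hmul⟩ := normalizer_centralizer (p := 11) (by norm_num) _ (sylow_eleven_card hord P)
    rw [hN] at hmul
    have key : ∀ k ∈ Nat.divisors 10, k ∣ 176 → 2 ∣ 176 / k := by decide +kernel
    have h2 := key k (Nat.mem_divisors.2 ⟨hk, by norm_num⟩) ⟨_, hmul.symm.trans (mul_comm _ _)⟩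
    rw [← hmul, Nat.mul_div_cancel _ (Nat.pos_of_dvd_of_pos hk (by norm_num))] at h2
    exact linked_of_edge (by norm_num) (by norm_num)
      (edge_of_centralizer (by norm_num) (by norm_num) (by norm_num) _ (sylow_eleven_card hord P) h2)
  obtain ⟨Q⟩ : Nonempty (Sylow 5 G) := inferInstance
  have hQ := sylow_five_card hord Q
  obtain ⟨k, hk, hmul⟩ := normalizer_centralizer (p := 5) (by norm_num) _ hQ
  have hm := card_sylow_mul Q
  rw [hord] at hm
  have hd : Nat.card (Sylow 5 G) ∣ 1584 := by
    have hi : (Q : Subgroup G).index = 1584 := by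
      have h := (Q : Subgroup G).card_mul_index
      rw [hQ, hord] at h
      omega
    exact hi ▸ Q.card_dvd_index
  have hm5 : Nat.card (Sylow 5 G) % 5 = 1 := card_sylow_modEq_one 5 G
  have h11 : ¬ 11 ∣ Nat.card (centralizer ((Q : Subgroup G) : Set G)) := by
    intro h
    obtain ⟨⟨x, hx⟩, hxo⟩ := exists_prime_orderOf_dvd_card'
      (G := centralizer ((Q : Subgroup G) : Set G)) 11 h
    rw [orderOf_mk] at hxo
    obtain ⟨R, hR⟩ := exists_sylow_zpowers hxo (by
      rw [hord]; exact factorization_eq (k := 1) (by norm_num) (by norm_num) (by norm_num) (by norm_num))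
    have hle : (Q : Subgroup G) ≤ normalizer ((R : Subgroup G) : Set G) := by
      refine le_trans ?_ (centralizer_le_normalizer _)
      rw [hR]
      intro y hy
      rw [zpowers_eq_closure, centralizer_closure, mem_centralizer_singleton_iff]
      exact mem_centralizer_iff.1 hx y hy
    have := card_dvd_of_le hle
    rw [hQ, hN] at this
    norm_num at this
  have key : ∀ s ∈ Nat.divisors 1584, s % 5 = 1 → ∀ k ∈ Nat.divisors 4, k ∣ 7920 / s →
      ¬ 11 ∣ 7920 / s / k → s = 396 ∨ (2 ∣ 7920 / s / k ∧ 3 ∣ 7920 / s / k) ∨ (s = 176 ∧ k = 1) := by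
    decide +kernel
  have hs0 : 0 < Nat.card (Sylow 5 G) := Nat.card_pos
  have hdiv : 7920 / Nat.card (Sylow 5 G) = Nat.card (normalizer ((Q : Subgroup G) : Set G)) := by
    rw [← hm, Nat.mul_div_cancel _ hs0]
  have hk0 : 0 < k := Nat.pos_of_dvd_of_pos hk (by norm_num)
  rcases key _ (Nat.mem_divisors.2 ⟨hd, by norm_num⟩) hm5 k (Nat.mem_divisors.2 ⟨hk, by norm_num⟩)
    (by rw [hdiv]; exact ⟨_, hmul.symm.trans (mul_comm _ _)⟩)
    (by rw [hdiv, ← hmul, Nat.mul_div_cancel _ hk0]; exact h11) with h | ⟨h2, h3⟩ | ⟨h176, hk1⟩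
  · exact Or.inr h
  · rw [hdiv, ← hmul, Nat.mul_div_cancel _ hk0] at h2 h3
    have l2 : Linked G 2 5 := linked_of_edge (by norm_num) (by norm_num)
      (edge_of_centralizer (by norm_num) (by norm_num) (by norm_num) _ hQ h2)
    have l3 : Linked G 3 5 := linked_of_edge (by norm_num) (by norm_num)
      (edge_of_centralizer (by norm_num) (by norm_num) (by norm_num) _ hQ h3)
    exact Or.inl ⟨l2.trans l3.symm, l2⟩
  · exfalso
    rw [hk1, mul_one] at hmul
    obtain ⟨M, hMn, hM, -⟩ := exists_complement Q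
      (eq_of_le_of_card_ge (centralizer_le_normalizer _) hmul.ge).ge
    haveI := hMn
    rw [hQ, hord] at hM
    have hPM : (P : Subgroup G) ≤ M :=
      sylow_le_of_dvd (by rw [hord]; norm_num) P M (by
        rw [show Nat.card M = 1584 by omega]; norm_num)
    have h := card_normalizer_inf P M hPM
    rw [h45] at h
    omega

/-- the main statement -/
theorem linked_all (N : Subgroup G) [N.Normal] (hN1 : N ≠ ⊥) (hNt : N ≠ ⊤)
    (hmin : ∀ M : Subgroup G, M.Normal → M ≤ N → M = ⊥ ∨ M = N) :
    Linked G 2 3 ∧ Linked G 2 5 ∧ Linked G 2 11 := by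
  classical
  haveI : Fact (Nat.Prime 11) := ⟨by norm_num⟩
  haveI : Fact (Nat.Prime 5) := ⟨by norm_num⟩
  by_cases hs : Nat.card (Sylow 11 G) = 1 ∨ Nat.card (Sylow 11 G) = 12
  · exact linked_of_small hord hs
  push Not at hs
  have hn : Nat.card (Sylow 11 G) = 45 ∨ Nat.card (Sylow 11 G) = 144 := by
    rcases eleven_count hord with h | h | h | h <;> simp_all
  have hN0 : 1 < Nat.card N := Nat.lt_of_le_of_ne (Nat.one_le_iff_ne_zero.2 Nat.card_pos.ne')
    fun h => hN1 (card_eq_one.1 h.symm)
  have hN7 : Nat.card N < 7920 := hord ▸ Nat.lt_of_le_of_ne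
    (Nat.le_of_dvd Nat.card_pos (card_subgroup_dvd_card N))
    (fun h => hNt (eq_top_of_card_eq N h))
  by_cases h11 : 11 ∣ Nat.card N
  swap
  · -- order prime to eleven
    have hd := card_dvd_normalizer hord N h11
    rcases hn with h | h <;> rw [h] at hd
    · have hd' : Nat.card N ∣ 176 :=
        Nat.dvd_of_mul_dvd_mul_right (by norm_num : 0 < 45) hd
      have key : ∀ c ∈ Nat.divisors 176, ¬ 11 ∣ c → 1 < c → c = 16 ∨ (c ∈ [2, 4, 8]) := by
        decide +kernel
      obtain ⟨l11, hl⟩ := five_cases hord h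
      rcases key _ (Nat.mem_divisors.2 ⟨hd', by norm_num⟩) h11 hN0 with h16 | h248
      · exfalso
        obtain ⟨Q, hQ⟩ := exists_centralized hord N h11 Nat.prime_two
        rw [h16, factorization_eq (k := 4) Nat.prime_two (by norm_num) (by norm_num) (by norm_num)]
          at hQ
        have hQN := card_sylow_mul Q
        rw [h, hord] at hQN
        haveI : IsCyclic (Q : Subgroup G) := isCyclic_of_prime_card (sylow_eleven_card hord Q)
        have h11' : 11 ∣ Nat.card (centralizer ((Q : Subgroup G) : Set G)) := by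
          have := card_dvd_of_le (le_centralizer (Q : Subgroup G))
          rwa [sylow_eleven_card hord Q] at this
        have h176 : 176 ∣ Nat.card (centralizer ((Q : Subgroup G) : Set G)) :=
          Nat.Coprime.mul_dvd_of_dvd_of_dvd (show Nat.Coprime 16 11 by norm_num) hQ h11'
        obtain ⟨M, hMn, hM, -⟩ := exists_complement Q (eq_of_le_of_card_ge (centralizer_le_normalizer _)
          (by have := Nat.le_of_dvd Nat.card_pos h176; omega)).ge
        haveI := hMn
        rw [sylow_eleven_card hord Q, hord] at hM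
        have := card_dvd_normalizer hord M (by rw [show Nat.card M = 720 by omega]; norm_num)
        rw [show Nat.card M = 720 by omega, h] at this
        norm_num at this
      · -- a small normal 2-subgroup
        have hc : ∃ k, 1 ≤ k ∧ k ≤ 3 ∧ Nat.card N = 2 ^ k := by
          simp only [List.mem_cons, List.not_mem_nil, or_false] at h248
          rcases h248 with e | e | e
          · exact ⟨1, le_rfl, by norm_num, by rw [e]; norm_num⟩
          · exact ⟨2, by norm_num, by norm_num, by rw [e]; norm_num⟩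
          · exact ⟨3, by norm_num, le_rfl, by rw [e]; norm_num⟩
        obtain ⟨k, hk1, hk3, hk⟩ := hc
        obtain ⟨x, hx⟩ := exists_prime_orderOf_dvd_card' (G := G) 5 (by rw [hord]; norm_num)
        have l5 : Linked G 2 5 := linked_of_edge (by norm_num) (by norm_num)
          (edge_of_normalizer (by norm_num) Nat.prime_two (by norm_num) hx hk
            (by interval_cases k <;> norm_num) (by rw [normalizer_eq_top_iff.2 ‹N.Normal›]; trivial))
        refine ⟨?_, l5, l11⟩
        haveI : Fact (Nat.Prime 2) := ⟨Nat.prime_two⟩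
        obtain ⟨⟨y, hyN⟩, hy⟩ := exists_prime_orderOf_dvd_card' (G := N) 2
          (hk ▸ dvd_pow_self 2 (by omega))
        rw [orderOf_mk] at hy
        set C := centralizer ({y} : Set G) with hC
        have hidx : C.index ≤ 7 := by
          let f : G ⧸ C → {z : N // z ≠ 1} := fun t =>
            ⟨⟨t.out * y * t.out⁻¹, ‹N.Normal›.conj_mem y hyN _⟩, fun e => by
              have e' : t.out * y * t.out⁻¹ = 1 := congrArg Subtype.val e
              rw [conj_eq_one_iff] at e'
              rw [e', orderOf_one] at hy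
              norm_num at hy⟩
          have hf : Function.Injective f := by
            intro s t e
            have e' : s.out * y * s.out⁻¹ = t.out * y * t.out⁻¹ :=
              congrArg (fun z : {z : N // z ≠ 1} => (z.1 : G)) e
            have h2 : (QuotientGroup.mk s.out : G ⧸ C) = QuotientGroup.mk t.out :=
              QuotientGroup.eq.2 (by
                show _ ∈ centralizer ({y} : Set G)
                rw [mem_centralizer_singleton_iff]
                calc s.out⁻¹ * t.out * y = s.out⁻¹ * (t.out * y * t.out⁻¹) * t.out := by group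
                  _ = y * (s.out⁻¹ * t.out) := by rw [← e']; group)
            simpa using h2
          have h1 := Nat.card_le_card_of_injective f hf
          haveI := Fintype.ofFinite N
          rw [Nat.card_eq_fintype_card (α := {z : N // z ≠ 1}), Fintype.card_subtype_compl,
            Fintype.card_subtype_eq, ← Nat.card_eq_fintype_card, hk] at h1
          have : 2 ^ k ≤ 2 ^ 3 := Nat.pow_le_pow_right (by norm_num) hk3
          rw [index]
          omega
        have h3 : 3 ∣ Nat.card C := by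
          have hm := C.card_mul_index
          rw [hord] at hm
          interval_cases C.index <;> omega
        exact (linked_of_edge (by norm_num) (by norm_num) (edge_of_centralizer Nat.prime_three
          Nat.prime_two (by norm_num) (zpowers y) (by rw [Nat.card_zpowers, hy])
          (by rwa [zpowers_eq_closure, centralizer_closure, ← hC]))).symm
    · have hd' : Nat.card N ∣ 55 := Nat.dvd_of_mul_dvd_mul_right (by norm_num : 0 < 144) hd
      have key : ∀ c ∈ Nat.divisors 55, ¬ 11 ∣ c → 1 < c → c = 5 := by decide +kernel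
      have h5 := key _ (Nat.mem_divisors.2 ⟨hd', by norm_num⟩) h11 hN0
      obtain ⟨k, hk, hmul⟩ := normalizer_centralizer (p := 5) (by norm_num) N h5
      rw [normalizer_eq_top_iff.2 ‹N.Normal›, card_top, hord] at hmul
      have key2 : ∀ k ∈ Nat.divisors 4, 2 ∣ 7920 / k ∧ 3 ∣ 7920 / k ∧ 11 ∣ 7920 / k := by decide +kernel
      obtain ⟨h2, h3, h11'⟩ := key2 k (Nat.mem_divisors.2 ⟨hk, by norm_num⟩)
      rw [← hmul, Nat.mul_div_cancel _ (Nat.pos_of_dvd_of_pos hk (by norm_num))] at h2 h3 h11'
      have le : ∀ a : ℕ, a.Prime → a ≠ 5 → a ∣ Nat.card (centralizer (N : Set G)) → Linked G a 5 :=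
        fun a ha hne h => linked_of_edge ha (by norm_num)
          (edge_of_centralizer ha (by norm_num) hne N h5 h)
      have l2 := le 2 (by norm_num) (by norm_num) h2
      exact ⟨l2.trans (le 3 (by norm_num) (by norm_num) h3).symm, l2,
        l2.trans (le 11 (by norm_num) (by norm_num) h11').symm⟩
  -- eleven divides the order of `N`
  obtain ⟨P⟩ : Nonempty (Sylow 11 G) := inferInstance
  have hle : ∀ Q : Sylow 11 G, (Q : Subgroup G) ≤ N := fun Q =>
    sylow_le_of_dvd (by rw [hord]; norm_num) Q N h11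
  have hperf : commutator N = ⊤ := by
    have hmap : (commutator N).map N.subtype = ⁅N, N⁆ := map_subtype_commutator N
    rcases hmin ⁅N, N⁆ inferInstance (commutator_le_self N) with h | h
    · exfalso
      have hNP : N ≤ normalizer ((P : Subgroup G) : Set G) := fun g hg => mem_normalizer_iff.2 fun x => by
        have hcomm : ∀ a ∈ N, ∀ b ∈ N, a * b = b * a := fun a ha b hb => by
          have := commutator_mem_commutator ha hb
          rw [h, mem_bot] at this
          exact commutatorElement_eq_one_iff_mul_comm.1 this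
        constructor
        · intro hx
          rwa [hcomm g hg x (hle P hx), mul_inv_cancel_right]
        · intro hx
          have hxN : x ∈ N := by
            have h2 := ‹N.Normal›.conj_mem _ (hle P hx) g⁻¹
            simpa [mul_assoc] using h2
          rwa [hcomm g hg x hxN, mul_inv_cancel_right] at hx
      have htop : normalizer ((P : Subgroup G) : Set G) ⊔ N = ⊤ := P.normalizer_sup_eq_top' (hle P)
      rw [sup_eq_left.2 hNP] at htop
      have h1 := card_sylow_mul P
      rw [htop, card_top, hord] at h1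
      rcases hn with hn | hn <;> rw [hn] at h1 <;> omega
    · apply map_injective N.subtype_injective
      rw [hmap, h, ← MonoidHom.range_eq_map, range_subtype]
  have hinf := card_normalizer_inf P N (hle P)
  have hd11 : 11 ∣ Nat.card (normalizer ((P : Subgroup G) : Set G) ⊓ N : Subgroup G) :=
    by
      have := card_dvd_of_le (le_inf le_normalizer (hle P))
      rwa [sylow_eleven_card hord P] at this
  have hdm : Nat.card (normalizer ((P : Subgroup G) : Set G) ⊓ N : Subgroup G) ∣
      Nat.card (normalizer ((P : Subgroup G) : Set G)) := card_dvd_of_le inf_le_left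
  have hmN := card_sylow_mul P
  rw [hord] at hmN
  obtain ⟨hPc, hPn⟩ := inner_data P N (hle P)
  rw [sylow_eleven_card hord P] at hPc
  rcases hn with h | h <;> rw [h] at hinf hmN
  swap
  · exfalso
    rw [show Nat.card (normalizer ((P : Subgroup G) : Set G)) = 55 by omega] at hdm
    have key : ∀ c ∈ Nat.divisors 55, 11 ∣ c → c = 55 ∨ c = 11 := by decide +kernel
    rcases key _ (Nat.mem_divisors.2 ⟨hdm, by norm_num⟩) hd11 with e | e
    · rw [e] at hinf; omega
    · exact no_self_central hperf (P.subtype (hle P)) (by rw [hPc]; norm_num)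
        (le_centralizer_of_card _ hPc (by rw [hPn, e]))
  -- forty five
  obtain ⟨l11, hl⟩ := five_cases hord h
  rcases hl with ⟨l3, l5⟩ | h396
  · exact ⟨l3, l5, l11⟩
  exfalso
  rw [show Nat.card (normalizer ((P : Subgroup G) : Set G)) = 176 by omega] at hdm
  have h5N : 5 ∣ Nat.card N := by rw [← hinf]; exact Dvd.dvd.mul_left (by norm_num) _
  obtain ⟨Q⟩ : Nonempty (Sylow 5 G) := inferInstance
  have hQN : (Q : Subgroup G) ≤ N := sylow_le_of_dvd (by rw [hord]; norm_num) Q N h5N
  have hinf5 := card_normalizer_inf Q N hQN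
  rw [h396] at hinf5
  obtain ⟨hQc, hQn⟩ := inner_data Q N hQN
  rw [sylow_five_card hord Q] at hQc
  have key : ∀ c ∈ Nat.divisors 176, 11 ∣ c → c * 45 % 396 = 0 → c = 176 ∨ c = 88 ∨ c = 44 := by
    decide +kernel
  rcases key _ (Nat.mem_divisors.2 ⟨hdm, by norm_num⟩) hd11 (by
      rw [hinf, ← hinf5]; exact Nat.mul_mod_left _ _) with e | e | e
  · rw [e] at hinf; omega
  swap
  · exact no_self_central hperf (Q.subtype hQN) (by rw [hQc]; norm_num)
      (le_centralizer_of_card _ hQc (by rw [hQn]; rw [e] at hinf; omega))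
  -- order 3960
  rw [e] at hinf
  have hN3960 : Nat.card N = 3960 := hinf.symm
  have hS : Nat.card (Sylow 11 N) = 45 := by
    have h1 := card_sylow_mul (P.subtype (hle P))
    rw [hPn, e, hN3960] at h1
    omega
  refine false_of_perfect hperf (P.subtype (hle P)) hPc hS ?_ (by rw [hPn, e]) ?_
    (by rw [hN3960]; norm_num)
  · intro g hg
    let K : Subgroup G := (MulAction.toPermHom G (Sylow 11 G)).ker
    rcases hmin (K ⊓ N) inferInstance inf_le_right with hK | hK
    · have hgK : (g : G) ∈ K ⊓ N := by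
        refine ⟨?_, g.2⟩
        show MulAction.toPermHom G (Sylow 11 G) (g : G) = 1
        refine Equiv.ext fun Q => ?_
        show (g : G) • Q = Q
        rw [Sylow.smul_eq_iff_mem_normalizer]
        have h1 := Sylow.smul_eq_iff_mem_normalizer.1 (hg (Q.subtype (hle Q)))
        have h2 : g ∈ (normalizer ((Q : Subgroup G) : Set G)).subgroupOf N := by
          rw [subgroupOf_normalizer_eq (hle Q)]; exact h1
        exact h2
      rw [hK, mem_bot] at hgK
      exact Subtype.ext hgK
    · exfalso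
      have hNP : N ≤ normalizer ((P : Subgroup G) : Set G) := fun g hg => by
        have hg' : g ∈ K := (hK.symm ▸ hg : g ∈ K ⊓ N).1
        exact Sylow.smul_eq_iff_mem_normalizer.1 (Equiv.ext_iff.1 hg' P)
      have := card_dvd_of_le hNP
      rw [hN3960] at this
      have h2 := Nat.le_of_dvd Nat.card_pos this
      omega
  · intro g hg
    have hg2 : orderOf (g ^ 2) = 5 := by
      rw [orderOf_pow_of_dvd two_ne_zero (by rw [hg]; norm_num), hg]
    obtain ⟨R, hR⟩ := exists_sylow_zpowers hg2 (by
      rw [hN3960]; exact factorization_eq (k := 1) (by norm_num) (by norm_num) (by norm_num) (by norm_num))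
    have hRn : Nat.card (normalizer ((R : Subgroup N) : Set N)) = 10 := by
      have h1 := card_sylow_mul R
      have h2 := card_sylow_mul (Q.subtype hQN)
      rw [hQn, hN3960] at h2
      rw [hN3960] at h1
      have h3 : Nat.card (normalizer ((Q : Subgroup G) : Set G) ⊓ N : Subgroup G) = 10 := by omega
      rw [h3] at h2
      have h4 : Nat.card (Sylow 5 N) = 396 := by omega
      rw [h4] at h1
      omega
    refine no_self_central hperf R (by rw [hR, Nat.card_zpowers, hg2]; norm_num) ?_
    have hle' : zpowers g ≤ centralizer ((R : Subgroup N) : Set N) := by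
      rw [zpowers_le, hR, zpowers_eq_closure, centralizer_closure, mem_centralizer_singleton_iff]
      exact ((Commute.refl g).pow_right 2).eq
    refine (eq_of_le_of_card_ge (centralizer_le_normalizer _) ?_).ge
    rw [hRn, ← hg, ← Nat.card_zpowers]
    exact Nat.le_of_dvd Nat.card_pos (card_dvd_of_le hle')

/-- a disconnected graph forces simplicity -/
theorem isSimpleGroup_of_disconnected
    (hdisc : ∃ A : Set ℕ, (∃ a ∈ A, a.Prime ∧ a ∣ Nat.card G) ∧ (∃ b ∉ A, b.Prime ∧ b ∣ Nat.card G) ∧
      ∀ a ∈ A, ∀ b ∉ A, a.Prime → b.Prime → a ∣ Nat.card G → b ∣ Nat.card G →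
        ¬ ∃ g : G, orderOf g = a * b) : IsSimpleGroup G := by
  classical
  obtain ⟨A, ⟨a, ha, hap, had⟩, ⟨b, hb, hbp, hbd⟩, hA⟩ := hdisc
  haveI : Nontrivial G := Finite.one_lt_card_iff_nontrivial.1 (by rw [hord]; norm_num)
  by_contra hns
  have : ∃ H : Subgroup G, H.Normal ∧ H ≠ ⊥ ∧ H ≠ ⊤ := by
    by_contra hno
    push Not at hno
    exact hns ⟨fun H hH => or_iff_not_imp_left.2 (hno H hH)⟩
  obtain ⟨N, ⟨hNn, hN1, hNt⟩, hNmin⟩ : ∃ N, Minimal (fun H : Subgroup G =>
      H.Normal ∧ H ≠ ⊥ ∧ H ≠ ⊤) N :=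
    Set.Finite.exists_minimal (s := {H : Subgroup G | H.Normal ∧ H ≠ ⊥ ∧ H ≠ ⊤})
      (Set.toFinite _) this
  haveI := hNn
  obtain ⟨l3, l5, l11⟩ := linked_all hord N hN1 hNt fun M hM hle =>
    or_iff_not_imp_left.2 fun hM1 => le_antisymm hle
      (hNmin (y := M) ⟨hM, hM1, fun e => hNt (top_le_iff.1 (e ▸ hle))⟩ hle)
  have hside : ∀ r : ℕ, r.Prime → r ∣ Nat.card G → (r ∈ A ↔ 2 ∈ A) := by
    intro r hr hd
    rw [hord] at hd
    have key : r = 2 ∨ r = 3 ∨ r = 5 ∨ r = 11 := by
      rw [show (7920 : ℕ) = 2 ^ 4 * 3 ^ 2 * 5 * 11 by norm_num] at hd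
      rcases (Nat.Prime.dvd_mul hr).1 hd with h | h
      · rcases (Nat.Prime.dvd_mul hr).1 h with h | h
        · rcases (Nat.Prime.dvd_mul hr).1 h with h | h
          · exact Or.inl ((Nat.prime_dvd_prime_iff_eq hr Nat.prime_two).1 (hr.dvd_of_dvd_pow h))
          · exact Or.inr (Or.inl ((Nat.prime_dvd_prime_iff_eq hr Nat.prime_three).1 (hr.dvd_of_dvd_pow h)))
        · exact Or.inr (Or.inr (Or.inl ((Nat.prime_dvd_prime_iff_eq hr (by norm_num)).1 h)))
      · exact Or.inr (Or.inr (Or.inr ((Nat.prime_dvd_prime_iff_eq hr (by norm_num)).1 h)))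
    rcases key with rfl | rfl | rfl | rfl
    · exact Iff.rfl
    · exact (l3 A hA).symm
    · exact (l5 A hA).symm
    · exact (l11 A hA).symm
  exact hb ((hside b hbp hbd).2 ((hside a hap had).1 ha))

end Cfsg.Agent.KnownSimple.OrderSevenNineTwoZero
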