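import Mathlib
import Cfsg.Prelude.Def_Classical
import Cfsg.Agent.KnownSimple.Spectrum
import Cfsg.Agent.SimpleFacts.UnitarySemisimple
import Cfsg.Agent.Lib.Classical.UnitaryRegular
import Cfsg.Agent.Lib.Classical.UnitaryBasic
import Cfsg.Agent.Lib.Classical.SpectrumFactors
import Cfsg.Agent.Lib.Classical.SpectrumSymp

/-!
# Element orders in `PSU_n(q)`

As in the symplectic case the division into cases uses the idempotents of `F[g]` fixed by the
hermitian adjoint.
-/

set_option autoImplicit false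
set_option linter.unusedSectionVars false

namespace Cfsg.Agent.KnownSimple.SpectrumUnitCube

open Polynomial Module Matrix
open Cfsg.Agent.Classical Cfsg.Agent.Forms
open Cfsg.Agent.Classical.Unitary (mat)

universe u

variable {F : Type u} [Field F] [Fintype F] {q : ℕ}

section Field

/-- the `(q + 1)`-th roots of unity of an extension lie in `F` -/
theorem exists_root_of_unit (hF : Fintype.card F = q ^ 2) {L : Type*} [Field L] [Algebra F L] {y : L}
    (hy : y ^ (q + 1) = 1) : ∃ c : F, c ^ (q + 1) = 1 ∧ algebraMap F L c = y := by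
  obtain ⟨g, hg⟩ := IsCyclic.exists_generator (α := Fˣ)
  obtain ⟨x, hx⟩ := Spectrum.exists_orderOf_of_dvd g (m := q + 1) (by
    rw [orderOf_eq_card_of_forall_mem_zpowers hg, Unitary.natCard_units_F hF]
    exact dvd_mul_left _ _)
  have h1 : IsPrimitiveRoot ((x : F)) (q + 1) := by
    rw [← hx, ← orderOf_units]; exact IsPrimitiveRoot.orderOf _
  obtain ⟨i, -, hi⟩ := (h1.map_of_injective (algebraMap F L).injective).eq_pow_of_pow_eq_one hy
  exact ⟨(x : F) ^ i, by rw [← pow_mul, mul_comm, pow_mul, h1.pow_eq_one, one_pow],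
    by rw [map_pow, hi]⟩

/-- the `q`-th power of a value -/
theorem aeval_frob (hF : Fintype.card F = q ^ 2) {p a : ℕ} [Fact p.Prime] [CharP F p] (hq : q = p ^ a)
    {L : Type*} [Field L] [Algebra F L] (y : L) (P : F[X]) :
    (aeval y P) ^ q = aeval (y ^ q) (P.map (HermStd.qHom hF)) := by
  have : CharP L p := charP_of_injective_algebraMap (algebraMap F L).injective p
  have h1 : ∀ x : L, iterateFrobenius L p a x = x ^ q := fun x => by rw [iterateFrobenius_def, hq]
  rw [← h1, aeval_def, Polynomial.hom_eval₂, h1, aeval_def, eval₂_map]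
  congr 1
  ext c
  simp [h1]

theorem map_qHom_qHom (hF : Fintype.card F = q ^ 2) (P : F[X]) :
    (P.map (HermStd.qHom hF)).map (HermStd.qHom hF) = P := by
  ext i
  rw [coeff_map, coeff_map, HermStd.qHom_qHom]

/-- if a power of `y` is the generator, polynomials killing `y` have large degree -/
theorem natDegree_le_of_pow_eq {g P : F[X]} (hg : g ≠ 0) (hP : P ≠ 0) {y : AdjoinRoot g}
    (hy : aeval y P = 0) {N : ℕ} (hN : y ^ N = AdjoinRoot.root g) :
    g.natDegree ≤ P.natDegree := by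
  let φ : AdjoinRoot P →ₐ[F] AdjoinRoot g := AdjoinRoot.liftAlgHom P (Algebra.ofId F _) y hy
  have hφ : Function.Surjective φ := by
    intro x
    induction x using AdjoinRoot.induction_on with
    | ih R =>
      refine ⟨AdjoinRoot.mk P (R.comp (X ^ N)), ?_⟩
      rw [← AdjoinRoot.aeval_eq, ← Polynomial.aeval_algHom_apply,
        show φ (AdjoinRoot.root P) = y from AdjoinRoot.liftAlgHom_root .., aeval_comp, map_pow,
        aeval_X, hN, AdjoinRoot.aeval_eq]
  have : Module.Finite F (AdjoinRoot P) := (AdjoinRoot.powerBasis hP).finite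
  have h1 := LinearMap.finrank_range_le φ.toLinearMap
  rw [LinearMap.range_eq_top.2 hφ, finrank_top,
    (AdjoinRoot.powerBasis hg).finrank, AdjoinRoot.powerBasis_dim,
    (AdjoinRoot.powerBasis hP).finrank, AdjoinRoot.powerBasis_dim] at h1
  exact h1

/-- the norm through the constant term -/
theorem pow_eq_coeff_zero {g P : F[X]} [Fact (Irreducible g)] (hP : P.Monic)
    (hdeg : P.natDegree = g.natDegree) {y : AdjoinRoot g} (hy : aeval y P = 0) {N : ℕ}
    (hN : y ^ N = AdjoinRoot.root g) :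
    y ^ ((Fintype.card F ^ g.natDegree - 1) / (Fintype.card F - 1)) =
      algebraMap F (AdjoinRoot g) ((-1) ^ g.natDegree * P.coeff 0) := by
  classical
  have hg : g ≠ 0 := (Fact.out : Irreducible g).ne_zero
  let pb := AdjoinRoot.powerBasis hg
  have : Module.Finite F (AdjoinRoot g) := pb.finite
  have : Finite (AdjoinRoot g) := Module.finite_of_finite F
  have hint : IsIntegral F y := IsIntegral.of_finite F y
  have h1 : g.natDegree ≤ (minpoly F y).natDegree :=
    natDegree_le_of_pow_eq hg (minpoly.ne_zero hint) (minpoly.aeval F y) hN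
  set Q := (Algebra.leftMulMatrix pb.basis y).charpoly with hQ
  have hQd : Q.natDegree = g.natDegree := by
    rw [hQ, Matrix.charpoly_natDegree_eq_dim, Fintype.card_fin, AdjoinRoot.powerBasis_dim]
  have hQy : aeval y Q = 0 := by
    apply Algebra.leftMulMatrix_injective pb.basis
    rw [← Polynomial.aeval_algHom_apply, map_zero]
    exact Matrix.aeval_self_charpoly _
  have e1 : P = minpoly F y := eq_of_monic_of_dvd_of_natDegree_le (minpoly.monic hint) hP
    (minpoly.dvd F y hy) (hdeg.le.trans h1) |> fun h => h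
  have e2 : Q = minpoly F y := eq_of_monic_of_dvd_of_natDegree_le (minpoly.monic hint)
    (Matrix.charpoly_monic _) (minpoly.dvd F y hQy) (hQd.le.trans h1) |> fun h => h
  have hcard : Nat.card (AdjoinRoot g) = Fintype.card F ^ g.natDegree := by
    rw [Module.natCard_eq_pow_finrank (K := F), Nat.card_eq_fintype_card, pb.finrank,
      AdjoinRoot.powerBasis_dim]
  rw [← hcard, ← Nat.card_eq_fintype_card (α := F), ← FiniteField.algebraMap_norm_eq_pow,
    Algebra.norm_eq_matrix_det pb.basis, Matrix.det_eq_sign_charpoly_coeff, ← hQ, e2, ← e1,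
    Fintype.card_fin, AdjoinRoot.powerBasis_dim]

theorem frob_fix {g : F[X]} [Fact (Irreducible g)] {l : ℕ}
    (h : AdjoinRoot.root g ^ Fintype.card F ^ l = AdjoinRoot.root g) : g.natDegree ∣ l := by
  have hg : g ≠ 0 := (Fact.out : Irreducible g).ne_zero
  have : Module.Finite F (AdjoinRoot g) := (AdjoinRoot.powerBasis hg).finite
  have : Finite (AdjoinRoot g) := Module.finite_of_finite F
  rw [← (AdjoinRoot.powerBasis_dim hg), ← (AdjoinRoot.powerBasis hg).finrank,
    ← FiniteField.orderOf_frobeniusAlgEquivOfAlgebraic, orderOf_dvd_iff_pow_eq_one]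
  refine AlgEquiv.coe_toAlgHom_injective (AdjoinRoot.algHom_ext ?_)
  show (FiniteField.frobeniusAlgEquivOfAlgebraic F (AdjoinRoot g) ^ l) (AdjoinRoot.root g) = _
  rw [AlgEquiv.coe_pow, FiniteField.coe_frobeniusAlgEquivOfAlgebraic_iterate]
  exact h

end Field

section Adjoint

variable (hF : Fintype.card F = q ^ 2) {n : ℕ}

include hF

theorem adj_smul (c : F) (M : Matrix (Fin n) (Fin n) F) :
    UnitaryConj.adj hF (c • M) = c ^ q • UnitaryConj.adj hF M := by
  ext i j
  simp [UnitaryConj.adj, mul_pow]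

theorem adj_zero : UnitaryConj.adj hF (0 : Matrix (Fin n) (Fin n) F) = 0 := by
  simpa [Unitary.q_ne_zero hF] using adj_smul hF (0 : F) (0 : Matrix (Fin n) (Fin n) F)

theorem adj_sub (M N : Matrix (Fin n) (Fin n) F) :
    UnitaryConj.adj hF (M - N) = UnitaryConj.adj hF M - UnitaryConj.adj hF N := by
  rw [eq_sub_iff_add_eq, ← UnitaryConj.adj_add, sub_add_cancel]

theorem adj_aeval (M : Matrix (Fin n) (Fin n) F) (P : F[X]) :
    UnitaryConj.adj hF (aeval M P) =
      aeval (UnitaryConj.adj hF M) (P.map (HermStd.qHom hF)) := by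
  induction P using Polynomial.induction_on' with
  | add P Q hP hQ => rw [map_add, Polynomial.map_add, map_add, UnitaryConj.adj_add, hP, hQ]
  | monomial i a =>
    rw [aeval_monomial, Polynomial.map_monomial, aeval_monomial, ← Algebra.smul_def,
      ← Algebra.smul_def, adj_smul, SimpleFacts.UnitarySemisimple.adj_pow, HermStd.qHom_apply]

theorem adj_mat (g : Cfsg.SU n F q) : UnitaryConj.adj hF (mat g) * mat g = 1 :=
  (UnitaryConj.mem_GU_iff hF (Matrix.SpecialLinearGroup.toGL (g : SpecialLinearGroup (Fin n) F))).1 g.2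

/-- a unitary matrix of determinant one -/
theorem exists_su {M : Matrix (Fin n) (Fin n) F} (hM : UnitaryConj.adj hF M * M = 1)
    (hd : M.det = 1) : ∃ g : Cfsg.SU n F q, mat g = M :=
  ⟨⟨⟨M, hd⟩, (UnitaryConj.mem_GU_iff hF
    (Matrix.SpecialLinearGroup.toGL (⟨M, hd⟩ : SpecialLinearGroup (Fin n) F))).2 hM⟩, rfl⟩

theorem mk_pow_eq_one (hn : 2 ≤ n) (g : Cfsg.SU n F q) (e : ℕ) :
    (g : Cfsg.PSU n F q) ^ e = 1 ↔ ∃ c : F, mat g ^ e = c • 1 := by
  rw [← QuotientGroup.mk_pow, QuotientGroup.eq_one_iff, Unitary.mem_center_iff hF hn]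
  rfl

theorem orderOf_dvd_mul (hn : 2 ≤ n) (g : Cfsg.SU n F q) :
    orderOf g ∣ Nat.gcd n (q + 1) * orderOf (g : Cfsg.PSU n F q) := by
  have h1 : g ^ orderOf (g : Cfsg.PSU n F q) ∈ Subgroup.center (Cfsg.SU n F q) := by
    rw [← QuotientGroup.eq_one_iff, QuotientGroup.mk_pow, pow_orderOf_eq_one]
  have h2 : (⟨_, h1⟩ : Subgroup.center (Cfsg.SU n F q)) ^ Nat.gcd n (q + 1) = 1 := by
    rw [← Unitary.natCard_center hF hn]; exact pow_card_eq_one'
  rw [mul_comm, orderOf_dvd_iff_pow_eq_one, pow_mul]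
  exact congrArg Subtype.val h2

/-- A self-adjoint idempotent gives an element of order `r`. -/
theorem exists_commute_orderOf (hn : 2 ≤ n) {r : ℕ} (hr : r.Prime) (hrq : r ∣ q + 1) (hrn : ¬ r ∣ n)
    {c : Matrix (Fin n) (Fin n) F} (hcc : c * c = c) (hca : UnitaryConj.adj hF c = c)
    (hc0 : c ≠ 0) (hc1 : c ≠ 1) :
    ∃ h : Cfsg.SU n F q, orderOf (h : Cfsg.PSU n F q) = r ∧
      ∀ g : Cfsg.SU n F q, Commute c (mat g) → Commute (g : Cfsg.PSU n F q) (h : Cfsg.PSU n F q) := by
  classical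
  have : Fact r.Prime := ⟨hr⟩
  obtain ⟨lam, hlam⟩ : ∃ x : Fˣ, orderOf x = r := by
    refine exists_prime_orderOf_dvd_card' r ?_
    rw [Unitary.natCard_units_F hF]
    exact hrq.trans (dvd_mul_left _ _)
  let φ : F →* Matrix (Fin n) (Fin n) F :=
    { toFun := fun a => a • c + (1 - c)
      map_one' := by simp
      map_mul' := fun a b => by
        simp only [add_mul, mul_add, hcc, sub_mul, mul_sub, one_mul, mul_one,
          smul_mul_assoc, mul_smul_comm, smul_sub, smul_add]
        module }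
  have hadj : ∀ a : F, UnitaryConj.adj hF (φ a) = φ (a ^ q) := fun a => by
    show UnitaryConj.adj hF (a • c + (1 - c)) = a ^ q • c + (1 - c)
    rw [UnitaryConj.adj_add, adj_sub, UnitaryConj.adj_one, adj_smul, hca]
  have hlr : (lam : F) ^ r = 1 := by
    rw [← Units.val_pow_eq_pow_val, ← hlam, pow_orderOf_eq_one, Units.val_one]
  have hlq : (lam : F) ^ (q + 1) = 1 := by
    obtain ⟨t, ht⟩ := hrq
    rw [ht, pow_mul, hlr, one_pow]
  set μ := (φ lam).det with hμ
  have hμr : μ ^ r = 1 := by rw [hμ, ← det_pow, ← map_pow, hlr, map_one, det_one]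
  have hμq : μ ^ (q + 1) = 1 := by
    obtain ⟨t, ht⟩ := hrq
    rw [ht, pow_mul, hμr, one_pow]
  have hμ0 : μ ≠ 0 := fun h => by rw [h, zero_pow hr.ne_zero] at hμr; exact zero_ne_one hμr
  obtain ⟨h, hh⟩ := exists_su hF (M := μ⁻¹ • (φ lam) ^ n) (by
      rw [adj_smul, SimpleFacts.UnitarySemisimple.adj_pow, hadj, smul_mul_smul_comm, ← pow_succ,
        inv_pow, hμq, inv_one, one_smul, ← map_pow, ← map_pow, ← map_mul, ← mul_pow, ← pow_succ,
        hlq, one_pow, map_one]) (by
      rw [det_smul, det_pow, ← hμ, Fintype.card_fin, ← mul_pow, inv_mul_cancel₀ hμ0, one_pow])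
  refine ⟨h, orderOf_eq_prime ?_ ?_, fun g hg => ?_⟩
  · rw [mk_pow_eq_one hF hn]
    refine ⟨1, ?_⟩
    rw [hh, _root_.smul_pow, inv_pow, hμr, inv_one, ← pow_mul, mul_comm, pow_mul, ← map_pow, hlr,
      map_one, one_pow]
  · intro h1
    rw [← pow_one (h : Cfsg.PSU n F q), mk_pow_eq_one hF hn] at h1
    obtain ⟨a, ha⟩ := h1
    rw [pow_one, hh, ← map_pow] at ha
    have h3 : (μ⁻¹ * (lam : F) ^ n) • c = a • c := by
      have := congrArg (· * c) ha
      simpa [φ, smul_mul_assoc, add_mul, sub_mul, hcc, smul_smul] using this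
    have h4 : μ⁻¹ • (1 - c) = a • (1 - c) := by
      have := congrArg (· * (1 - c)) ha
      simpa [φ, smul_mul_assoc, add_mul, sub_mul, mul_sub, hcc, smul_smul, smul_sub] using this
    have h5 := smul_left_injective F hc0 h3
    have h6 := smul_left_injective F (sub_ne_zero.2 (Ne.symm hc1)) h4
    have h7 : (lam : F) ^ n = 1 :=
      mul_left_cancel₀ (inv_ne_zero hμ0) ((h5.trans h6.symm).trans (mul_one _).symm)
    apply hrn
    rw [← hlam, orderOf_dvd_iff_pow_eq_one]
    exact Units.ext (by simpa using h7)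
  · refine Commute.map ?_ (QuotientGroup.mk' (Subgroup.center (Cfsg.SU n F q)))
    refine Subtype.ext (Subtype.ext ?_)
    show mat g * mat h = mat h * mat g
    rw [hh]
    have hφg : Commute (φ lam) (mat g) :=
      (hg.smul_left (lam : F)).add_left ((Commute.one_left _).sub_left hg)
    exact ((hφg.pow_left n).smul_left μ⁻¹).symm.eq

end Adjoint

section Structure

variable (hF : Fintype.card F = q ^ 2) {n : ℕ}

include hF

/-- the number `M(w)` -/
def tord (q w : ℕ) : ℕ := if Odd w then q ^ w + 1 else q ^ w - 1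

theorem succ_dvd_tord (w : ℕ) : q + 1 ∣ tord q w := by
  unfold tord
  split
  · next h => simpa using Odd.nat_add_dvd_pow_add_pow q 1 h
  · next h =>
    obtain ⟨v, rfl⟩ := Nat.not_odd_iff_even.1 h
    have h1 : q ^ 2 - 1 ^ 2 ∣ q ^ (v + v) - 1 := by
      rw [← two_mul, pow_mul, one_pow]
      simpa using Nat.sub_dvd_pow_sub_pow (q ^ 2) 1 v
    rw [Nat.sq_sub_sq] at h1
    exact (dvd_mul_right _ _).trans h1

/-- Either a self-adjoint idempotent, or a scalar up to a unipotent, or one torus. -/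
theorem structure_thm (hn : 2 ≤ n) (g : Cfsg.SU n F q) {p a : ℕ} [Fact p.Prime] [CharP F p]
    (hq : q = p ^ a) :
    (∃ c : Matrix (Fin n) (Fin n) F, c * c = c ∧ UnitaryConj.adj hF c = c ∧ c ≠ 0 ∧ c ≠ 1 ∧
      Commute c (mat g)) ∨
    (∃ i, orderOf (g : Cfsg.PSU n F q) ∣ p ^ i) ∨
    ∃ w j R : ℕ, 2 ≤ w ∧ w ≤ n ∧ (w < n → j ≤ n - w) ∧ (w = n → j = 1) ∧
      tord q w = R * (q + 1) ∧
      (∀ c, j ≤ p ^ c → orderOf (g : Cfsg.PSU n F q) ∣ R * p ^ c) ∧
      (w = n → ∀ e, R ∣ Nat.gcd n (q + 1) * e → orderOf (g : Cfsg.PSU n F q) ∣ e) := by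
  classical
  have hp : p.Prime := Fact.out
  have hq0 : q ≠ 0 := Unitary.q_ne_zero hF
  have hq2 : 2 ≤ q := HermStd.one_lt_q hF
  have : Nonempty (Fin n) := ⟨⟨0, by omega⟩⟩
  set A := mat g with hA
  set B := UnitaryConj.adj hF A with hB
  set K := orderOf g with hK
  have hK0 : 0 < K := orderOf_pos g
  have hmatpow : ∀ e, mat (g ^ e) = A ^ e := fun e => rfl
  have hAK : A ^ K = 1 := by rw [← hmatpow, hK, pow_orderOf_eq_one]; rfl
  have hBA : B * A = 1 := adj_mat hF g
  have hBpow : B = A ^ (K - 1) := by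
    calc B = B * (A * A ^ (K - 1)) := by rw [← pow_succ', Nat.sub_add_cancel hK0, hAK, mul_one]
      _ = A ^ (K - 1) := by rw [← mul_assoc, hBA, one_mul]
  have hAB : A * B = 1 := by rw [hBpow, ← pow_succ', Nat.sub_add_cancel hK0, hAK]
  have hcomp : ∀ P : F[X], aeval B P = aeval A (P.comp (X ^ (K - 1))) := fun P => by
    rw [aeval_comp, map_pow, aeval_X, ← hBpow]
  set τ := HermStd.qHom hF with hτ
  set m := minpoly F A with hm
  have hint : IsIntegral F A := Algebra.IsIntegral.isIntegral A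
  have hm0 : m ≠ 0 := minpoly.ne_zero hint
  have hmdeg : 0 < m.natDegree := minpoly.natDegree_pos hint
  obtain ⟨f, hfm, hfi, hfd⟩ := exists_monic_irreducible_factor m (fun h => by
    have := natDegree_eq_zero_of_isUnit h; omega)
  obtain ⟨j, r, hr, heq⟩ := WfDvdMonoid.max_power_factor' hm0 hfi.not_isUnit
  have hj : j ≠ 0 := by
    rintro rfl
    rw [pow_zero, one_mul] at heq
    exact hr (heq ▸ hfd)
  have hr0 : r ≠ 0 := fun h => hm0 (by rw [heq, h, mul_zero])
  have hrm : r.Monic := (hfm.pow j).of_mul_monic_left (heq ▸ minpoly.monic hint)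
  have hmc : m ∣ A.charpoly := minpoly.dvd F A (Matrix.aeval_self_charpoly A)
  have hmle : m.natDegree ≤ n := by
    have h := natDegree_le_of_dvd hmc A.charpoly_monic.ne_zero
    rwa [Matrix.charpoly_natDegree_eq_dim, Fintype.card_fin] at h
  have hdet : (-1 : F) ^ n * A.charpoly.coeff 0 = 1 := by
    have h := Matrix.det_eq_sign_charpoly_coeff A
    rw [Fintype.card_fin] at h
    rw [← h]
    exact (g : SpecialLinearGroup (Fin n) F).2
  have hdeg : m.natDegree = j * f.natDegree + r.natDegree := by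
    rw [heq, natDegree_mul (pow_ne_zero _ hfi.ne_zero) hr0, natDegree_pow]
  have hD1 : 0 < f.natDegree := hfi.natDegree_pos
  have hmK : m ∣ X ^ K - C 1 := minpoly.dvd F A (by simp [hAK])
  have : Fact (Irreducible f) := ⟨hfi⟩
  have : Module.Finite F (AdjoinRoot f) := (AdjoinRoot.powerBasis hfi.ne_zero).finite
  have : Finite (AdjoinRoot f) := Module.finite_of_finite F
  have : CharP (AdjoinRoot f) p := charP_of_injective_algebraMap (algebraMap F _).injective p
  set z := AdjoinRoot.root f with hz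
  have hzK : z ^ K = 1 := by
    have h1 := AdjoinRoot.mk_eq_zero.2 (hfd.trans hmK)
    rwa [map_sub, map_pow, AdjoinRoot.mk_X, AdjoinRoot.mk_C, map_one, sub_eq_zero] at h1
  have hz0 : z ≠ 0 := fun h => by rw [h, zero_pow hK0.ne'] at hzK; exact zero_ne_one hzK
  have hzinv : z ^ (K - 1) = z⁻¹ := eq_inv_of_mul_eq_one_left (by
    rw [← pow_succ, Nat.sub_add_cancel hK0, hzK])
  obtain ⟨u, v, huv⟩ : IsCoprime (f ^ j) r := ((hfi.coprime_iff_not_dvd).2 hr).pow_left
  set e := aeval A (v * r) with he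
  have hzero : ∀ P : F[X], m ∣ P → aeval A P = 0 := fun P hP => (minpoly.dvd_iff).1 hP
  have hee : e * e = e := by
    have h1 : aeval A (v * r * (u * f ^ j)) = 0 := hzero _ ⟨v * u, by rw [heq]; ring⟩
    rw [he, ← map_mul, show v * r * (v * r) = v * r * (u * f ^ j + v * r) - v * r * (u * f ^ j) by ring,
      huv, mul_one, map_sub, h1, sub_zero]
  have hfe : ∀ P : F[X], f ^ j ∣ P → aeval A P * e = 0 := by
    rintro P ⟨R, rfl⟩
    rw [he, ← map_mul]
    exact hzero _ ⟨R * v, by rw [heq]; ring⟩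
  have he0 : e ≠ 0 := by
    intro h
    obtain ⟨R, hR⟩ : m ∣ v * r := minpoly.dvd F A h
    have hv : v = f ^ j * R := by
      refine mul_right_cancel₀ hr0 (hR.trans ?_)
      rw [heq]; ring
    exact hfi.not_isUnit (isUnit_of_dvd_one ⟨f ^ (j - 1) * (u + R * r), by
      rw [← mul_assoc, ← pow_succ', Nat.sub_add_cancel (Nat.pos_of_ne_zero hj), ← huv, hv]; ring⟩)
  set e' := UnitaryConj.adj hF e with he'
  have he'B : e' = aeval B ((v * r).map τ) := by rw [he', he, adj_aeval]
  have hcomm : Commute e e' := by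
    rw [he'B, hcomp, he]
    exact (Commute.all _ _).map (aeval A)
  have he'e' : e' * e' = e' := by rw [he', ← UnitaryConj.adj_mul, hee]
  have heA : Commute e A := by
    have := (Commute.all (v * r) X).map (aeval A)
    rwa [aeval_X] at this
  have he'A : Commute e' A := by
    have := (Commute.all (((v * r).map τ).comp (X ^ (K - 1))) X).map (aeval A)
    rwa [aeval_X, ← hcomp, ← he'B] at this
  -- powers of `z` in `F` give scalar powers of `A`
  have hroot : ∀ i, z ^ ((q + 1) * i) = 1 →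
      ∃ c : F, c ^ (q + 1) = 1 ∧ f ^ j ∣ (X ^ i - C c) ^ j := by
    intro i hi
    obtain ⟨c, hc, hcz⟩ := exists_root_of_unit hF (y := z ^ i) (by
      rw [← pow_mul, mul_comm]; exact hi)
    refine ⟨c, hc, pow_dvd_pow_of_dvd (AdjoinRoot.mk_eq_zero.1 ?_) j⟩
    rw [map_sub, map_pow, AdjoinRoot.mk_X, AdjoinRoot.mk_C, ← AdjoinRoot.algebraMap_eq, hcz, sub_self]
  have hscal : ∀ (i : ℕ) (c : F), aeval A ((X ^ i - C c) ^ j) = 0 → ∀ s, j ≤ p ^ s →
      orderOf (g : Cfsg.PSU n F q) ∣ i * p ^ s := by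
    intro i c h0 s hs
    rw [orderOf_dvd_iff_pow_eq_one, mk_pow_eq_one hF hn]
    refine ⟨c ^ p ^ s, ?_⟩
    have h1 : aeval A ((X ^ i - C c) ^ p ^ s) = 0 := by
      obtain ⟨t, ht⟩ := Nat.exists_eq_add_of_le hs
      rw [ht, pow_add, map_mul, h0, zero_mul]
    rw [sub_pow_char_pow, ← pow_mul, ← C_pow, map_sub, map_pow, aeval_X, aeval_C, sub_eq_zero,
      Algebra.algebraMap_eq_smul_one] at h1
    exact h1
  have hfrob : ∀ (y : AdjoinRoot f) (P : F[X]), aeval y (P.map τ) = 0 → aeval (y ^ q) P = 0 := by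
    intro y P h
    have h1 := aeval_frob hF hq y (P.map τ)
    rw [h, zero_pow hq0, hτ, map_qHom_qHom hF] at h1
    exact h1.symm
  by_cases hp0 : e * e' = 0
  · -- two parts
    have hc : (e + e') * (e + e') = e + e' := by
      rw [add_mul, mul_add, mul_add, hee, he'e', ← hcomm.eq, hp0, add_zero, zero_add]
    have hca : UnitaryConj.adj hF (e + e') = e + e' := by
      rw [UnitaryConj.adj_add, he', UnitaryConj.adj_adj, add_comm]
    by_cases hc1 : e + e' = 1
    swap
    · refine Or.inl ⟨_, hc, hca, fun h => he0 ?_, hc1, heA.add_left he'A⟩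
      have := congrArg (fun Z => e * Z) h
      simpa [mul_add, hee, hp0] using this
    have hsum : e' = 1 - e := by rw [← hc1]; abel
    have hre : aeval B (r.map τ) * e = 0 := by
      have h1 : e' * aeval A r = 0 := by
        rw [hsum, he, sub_mul, one_mul, ← map_mul, ← map_sub]
        exact hzero _ ⟨u, by rw [heq, show r - v * r * r = r * (1 - v * r) by ring,
          ← eq_sub_of_add_eq huv]; ring⟩
      calc aeval B (r.map τ) * e = UnitaryConj.adj hF (e' * aeval A r) := by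
            rw [UnitaryConj.adj_mul, adj_aeval hF A r, he', UnitaryConj.adj_adj]
        _ = 0 := by rw [h1, adj_zero]
    have hrdvd : f ^ j ∣ (r.map τ).comp (X ^ (K - 1)) := by
      have h1 : m ∣ (r.map τ).comp (X ^ (K - 1)) * (v * r) := minpoly.dvd F A (by
        rw [map_mul, ← hcomp, ← he]; exact hre)
      rw [heq, ← mul_assoc] at h1
      exact (show IsCoprime (f ^ j) v from ⟨u, r, by linear_combination huv⟩).dvd_of_dvd_mul_right
        ((mul_dvd_mul_iff_right hr0).1 h1)
    have hjD : j * f.natDegree ≤ r.natDegree := by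
      have hzK' : AdjoinRoot.root (f ^ j) ^ K = 1 := by
        have h1 := AdjoinRoot.mk_eq_zero.2 ((Dvd.intro r heq.symm).trans hmK)
        rwa [map_sub, map_pow, AdjoinRoot.mk_X, AdjoinRoot.mk_C, map_one, sub_eq_zero] at h1
      have h := natDegree_le_of_pow_eq (y := AdjoinRoot.root (f ^ j) ^ (K - 1)) (N := K - 1)
        (pow_ne_zero j hfi.ne_zero) (P := r.map τ)
        ((Polynomial.map_ne_zero_iff τ.injective).2 hr0) (by
          rw [← AdjoinRoot.mk_eq_zero, ← AdjoinRoot.aeval_eq, aeval_comp, map_pow, aeval_X] at hrdvd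
          exact hrdvd) (StarFactor.pow_sub_one_sq hzK' hK0)
      rwa [natDegree_pow, natDegree_map] at h
    have hjn : 2 * f.natDegree * j ≤ n := by
      have : 2 * f.natDegree * j = j * f.natDegree + j * f.natDegree := by ring
      omega
    have h2D : 2 * f.natDegree ≤ n := (Nat.le_mul_of_pos_right _ (Nat.pos_of_ne_zero hj)).trans hjn
    obtain ⟨R, hR⟩ := succ_dvd_tord (q := q) (F := F) (hF) (2 * f.natDegree)
    have hT : tord q (2 * f.natDegree) = q ^ (2 * f.natDegree) - 1 := if_neg (Nat.not_odd_iff_even.2 (even_two_mul f.natDegree))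
    have hkill : ∀ i, z ^ ((q + 1) * i) = 1 → ∀ s, j ≤ p ^ s →
        orderOf (g : Cfsg.PSU n F q) ∣ i * p ^ s := by
      intro i hi
      obtain ⟨c, hc', hcd⟩ := hroot i hi
      refine hscal i c ?_
      set P := (X ^ i - C c) ^ j with hP
      have h1 : aeval A P * e = 0 := hfe P hcd
      have h2' : e' * aeval B (P.map τ) = 0 := by
        calc e' * aeval B (P.map τ) = UnitaryConj.adj hF (aeval A P * e) := by
              rw [UnitaryConj.adj_mul, adj_aeval hF A P]
          _ = 0 := by rw [h1, adj_zero]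
      have hcAB : Commute A B := by rw [commute_iff_eq, hAB, hBA]
      have h3 : aeval A P = (-(c • A ^ i)) ^ j * aeval B (P.map τ) := by
        have hAi : A ^ i * B ^ i = 1 := by rw [← hcAB.mul_pow, hAB, one_pow]
        simp only [hP, Polynomial.map_pow, Polynomial.map_sub, Polynomial.map_X, Polynomial.map_C,
          map_pow, map_sub, aeval_X, aeval_C, hτ, HermStd.qHom_apply, Algebra.algebraMap_eq_smul_one]
        rw [← Commute.mul_pow]
        · congr 1
          rw [_root_.smul_pow, one_pow, mul_sub, neg_mul, neg_mul, smul_mul_assoc, hAi, smul_mul_assoc, mul_smul_comm, mul_one,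
            smul_smul, ← pow_succ', hc', one_smul]
          abel
        · exact ((((hcAB.pow_pow i i).smul_left c).sub_right
            (((Commute.one_right _).smul_right c).pow_right q))).neg_left
      have h4 : e' * aeval A P = 0 := by
        rw [h3, ← mul_assoc, (((he'A.pow_right i).smul_right c).neg_right.pow_right j).eq, mul_assoc,
          h2', mul_zero]
      calc aeval A P = aeval A P * e + aeval A P * e' := by rw [← mul_add, hc1, mul_one]
        _ = 0 := by
          have hPe : Commute (aeval A P) e' := by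
            rw [he'B, hcomp]; exact (Commute.all _ _).map (aeval A)
          rw [h1, hPe.eq, h4, add_zero]
    have hzM : z ^ (q ^ (2 * f.natDegree) - 1) = 1 := by
      have hcard : Nat.card (AdjoinRoot f) = q ^ (2 * f.natDegree) := by
        rw [Module.natCard_eq_pow_finrank (K := F), Nat.card_eq_fintype_card, hF,
          (AdjoinRoot.powerBasis hfi.ne_zero).finrank, AdjoinRoot.powerBasis_dim, ← pow_mul]
      have := Fintype.ofFinite (AdjoinRoot f)
      rw [← hcard, Nat.card_eq_fintype_card]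
      exact FiniteField.pow_card_sub_one_eq_one z hz0
    refine Or.inr (Or.inr ⟨2 * f.natDegree, j, R, by omega, h2D, fun hlt => ?_, fun hw => ?_,
      hR.trans (mul_comm _ _), hkill R (by rw [← hR, hT]; exact hzM), fun hw i hi => ?_⟩)
    · rcases Nat.lt_or_ge j 2 with h | h
      · omega
      · obtain ⟨t, rfl⟩ : ∃ t, j = t + 2 := ⟨j - 2, by omega⟩
        have : 2 * f.natDegree * (t + 2) = 2 * f.natDegree + 2 * f.natDegree * (t + 1) := by ring
        have : t + 2 ≤ 2 * f.natDegree * (t + 1) := by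
          have : 2 * (t + 1) ≤ 2 * f.natDegree * (t + 1) := Nat.mul_le_mul_right _ (by omega)
          omega
        omega
    · by_contra h
      have : 2 * f.natDegree * 2 ≤ 2 * f.natDegree * j := Nat.mul_le_mul_left _ (by omega)
      omega
    have hj1 : j = 1 := by
      by_contra h
      have : 2 * f.natDegree * 2 ≤ 2 * f.natDegree * j := Nat.mul_le_mul_left _ (by omega)
      omega
    subst hj1
    rw [pow_one] at heq
    have hrD : r.natDegree = f.natDegree := by omega
    have hcp : A.charpoly = f * r := by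
      rw [← heq]
      refine (eq_of_monic_of_dvd_of_natDegree_le (minpoly.monic hint) A.charpoly_monic hmc ?_).trans rfl
      rw [Matrix.charpoly_natDegree_eq_dim, Fintype.card_fin, ← hm]; omega
    -- the norm relation
    set E := (Fintype.card F ^ f.natDegree - 1) / (Fintype.card F - 1) with hE
    have hN1 : z ^ E = algebraMap F (AdjoinRoot f) ((-1) ^ f.natDegree * f.coeff 0) :=
      pow_eq_coeff_zero hfm rfl (by rw [hz, AdjoinRoot.aeval_eq, AdjoinRoot.mk_self]) (pow_one z)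
    set y := (z ^ (K - 1)) ^ q with hy
    have hyr : aeval y r = 0 := by
      refine hfrob _ _ ?_
      rw [pow_one] at hrdvd
      rw [← AdjoinRoot.mk_eq_zero, ← AdjoinRoot.aeval_eq, aeval_comp, map_pow, aeval_X] at hrdvd
      exact hrdvd
    have hyN : y ^ ((K - 1) * q * q ^ (2 * (f.natDegree - 1))) = z := by
      have h1 : y ^ ((K - 1) * q) = z ^ q ^ 2 := by
        rw [hy, ← pow_mul, ← pow_mul, show (K - 1) * (q * ((K - 1) * q)) = (K - 1) * (K - 1) * q ^ 2 by ring,
          pow_mul, pow_mul z, StarFactor.pow_sub_one_sq hzK hK0]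
      rw [pow_mul y, h1, ← pow_mul, ← pow_add, show 2 + 2 * (f.natDegree - 1) = 2 * f.natDegree by omega]
      calc z ^ q ^ (2 * f.natDegree) = z ^ (q ^ (2 * f.natDegree) - 1) * z := by
            rw [← pow_succ, Nat.sub_add_cancel (Nat.one_le_pow _ _ (by omega))]
        _ = z := by rw [hzM, one_mul]
    have hN2 : y ^ E = algebraMap F (AdjoinRoot f) ((-1) ^ f.natDegree * r.coeff 0) :=
      pow_eq_coeff_zero hrm hrD hyr hyN
    have h1 : z ^ E * y ^ E = 1 := by
      rw [hN1, hN2, ← map_mul, show ((-1 : F) ^ f.natDegree * f.coeff 0) * ((-1) ^ f.natDegree * r.coeff 0) =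
        (-1) ^ (2 * f.natDegree) * (f * r).coeff 0 by rw [mul_coeff_zero, two_mul, pow_add]; ring,
        hw, ← hcp, hdet, map_one]
    have hzE : z ^ (E * (q - 1)) = 1 := by
      rw [hy, hzinv, ← pow_mul, inv_pow, mul_comm q E,
        show E * q = E * (q - 1) + E by rw [← Nat.mul_succ]; congr 1; omega, pow_add, mul_inv,
        mul_comm _ (z ^ E)⁻¹, ← mul_assoc, mul_inv_cancel₀ (pow_ne_zero _ hz0), one_mul] at h1
      exact inv_eq_one.1 h1
    have hER : R = E * (q - 1) := by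
      have h2 : (q ^ 2 - 1) * E = q ^ (2 * f.natDegree) - 1 := by
        rw [hE, hF, ← pow_mul]
        refine Nat.mul_div_cancel' ?_
        rw [pow_mul]
        simpa using Nat.sub_dvd_pow_sub_pow (q ^ 2) 1 f.natDegree
      have h3 : q ^ 2 - 1 = (q + 1) * (q - 1) := by rw [← Nat.sq_sub_sq, one_pow]
      refine Nat.eq_of_mul_eq_mul_left (show 0 < q + 1 by omega) ?_
      rw [← hR, hT, ← h2, h3]; ring
    have hzi : z ^ ((q + 1) * i) = 1 := by
      obtain ⟨t, ht⟩ := hi
      obtain ⟨t', ht'⟩ := Nat.gcd_dvd_right n (q + 1)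
      have h2 : (q + 1) * i = R * t * t' := by rw [← ht, mul_right_comm, ← ht']
      rw [h2, mul_assoc, hER, pow_mul, hzE, one_pow]
    simpa using hkill i hzi 0 (by simp)
  by_cases hp1 : e * e' = 1
  swap
  · refine Or.inl ⟨_, ?_, ?_, hp0, hp1, heA.mul_left he'A⟩
    · rw [mul_assoc, ← mul_assoc e', ← hcomm.eq, ← mul_assoc, ← mul_assoc, hee, mul_assoc, he'e']
    · rw [UnitaryConj.adj_mul, he', UnitaryConj.adj_adj]
  -- one part
  have he1 : e = 1 := by
    calc e = e * (e * e') := by rw [hp1, mul_one]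
      _ = 1 := by rw [← mul_assoc, hee, hp1]
  have hfA : aeval A (f ^ j) = 0 := by simpa [he1] using hfe (f ^ j) dvd_rfl
  rcases eq_or_ne f.natDegree 1 with hD' | hD'
  · refine Or.inr (Or.inl ⟨j, ?_⟩)
    have hf1 : f = X ^ 1 - C (-f.coeff 0) := by
      rw [pow_one, C_neg, sub_neg_eq_add]
      exact hfm.eq_X_add_C hD'
    simpa using hscal 1 (-f.coeff 0) (by rw [← hf1]; exact hfA) j (Nat.lt_pow_self hp.one_lt).le
  have hkill : ∀ i, z ^ ((q + 1) * i) = 1 → ∀ s, j ≤ p ^ s →
      orderOf (g : Cfsg.PSU n F q) ∣ i * p ^ s := by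
    intro i hi
    obtain ⟨c, -, hcd⟩ := hroot i hi
    exact hscal i c (by simpa [he1] using hfe _ hcd)
  have hzrec : aeval (z⁻¹ ^ q) f = 0 := by
    refine hfrob _ _ ?_
    have h1 : f ∣ (f.map τ).comp (X ^ (K - 1)) := by
      have h1 : m ∣ ((f.map τ).comp (X ^ (K - 1))) ^ j := minpoly.dvd F A (by
        rw [map_pow, ← hcomp, ← map_pow, ← Polynomial.map_pow, hB, hτ, ← adj_aeval, hfA, adj_zero])
      exact hfi.prime.dvd_of_dvd_pow (hfd.trans h1)
    rw [← AdjoinRoot.mk_eq_zero, ← AdjoinRoot.aeval_eq, aeval_comp, map_pow, aeval_X, hzinv] at h1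
    exact h1
  obtain ⟨i, hiD, hi⟩ : ∃ i, i < f.natDegree ∧ z ^ q ^ (2 * i) = z⁻¹ ^ q := by
    let φ : AdjoinRoot f →ₐ[F] AdjoinRoot f :=
      AdjoinRoot.liftAlgHom f (Algebra.ofId F _) (z⁻¹ ^ q) hzrec
    have hφ : φ z = z⁻¹ ^ q := AdjoinRoot.liftAlgHom_root _ _ _ _
    obtain ⟨⟨i, hi⟩, he2⟩ := (FiniteField.bijective_frobeniusAlgEquivOfAlgebraic_pow F (AdjoinRoot f)).2
      (AlgEquiv.ofBijective φ (Finite.injective_iff_bijective.1 φ.toRingHom.injective))
    have h2 := congrArg (fun ψ : AdjoinRoot f ≃ₐ[F] AdjoinRoot f => ψ z) he2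
    simp only [AlgEquiv.coe_pow, FiniteField.coe_frobeniusAlgEquivOfAlgebraic_iterate, hF] at h2
    rw [(AdjoinRoot.powerBasis hfi.ne_zero).finrank, AdjoinRoot.powerBasis_dim] at hi
    exact ⟨i, hi, by rw [pow_mul]; exact h2.trans hφ⟩
  have hone : ∀ t, z ^ (t * q) = 1 → z ^ t = 1 := by
    intro t ht
    rw [hq] at ht
    exact (ExpChar.pow_prime_pow_mul_eq_one_iff p a t z).1 (by rw [mul_comm]; exact ht)
  have hi0 : i ≠ 0 := by
    rintro rfl
    apply hD'
    simp only [mul_zero, pow_zero, pow_one] at hi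
    have h1 : z ^ (q + 1) = 1 := by
      rw [pow_succ]; nth_rewrite 2 [hi]
      rw [inv_pow, mul_inv_cancel₀ (pow_ne_zero _ hz0)]
    obtain ⟨c, -, hc⟩ := exists_root_of_unit hF h1
    have hd1 : f ∣ X - C c := AdjoinRoot.mk_eq_zero.1 (by
      rw [map_sub, AdjoinRoot.mk_X, AdjoinRoot.mk_C, ← AdjoinRoot.algebraMap_eq, hc, sub_self])
    have := natDegree_le_of_dvd hd1 (X_sub_C_ne_zero c)
    rw [natDegree_X_sub_C] at this
    omega
  have hz2 : z ^ (q ^ (2 * i - 1) + 1) = 1 := by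
    refine hone _ ?_
    rw [add_mul, one_mul, ← pow_succ, show 2 * i - 1 + 1 = 2 * i by omega, pow_add, hi, inv_pow,
      inv_mul_cancel₀ (pow_ne_zero _ hz0)]
  set l := 2 * i - 1 with hl
  have hlD : l = f.natDegree := by
    have h1 : z ^ Fintype.card F ^ l = z := by
      have h2 : z ^ q ^ l = z⁻¹ := eq_inv_of_mul_eq_one_left (by rw [← pow_succ]; exact hz2)
      rw [hF, ← pow_mul, two_mul, pow_add, pow_mul, h2, inv_pow, h2, inv_inv]
    obtain ⟨t, ht⟩ := frob_fix h1
    rcases t with _ | _ | t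
    · omega
    · omega
    · have : f.natDegree * 2 ≤ f.natDegree * (t + 1 + 1) := Nat.mul_le_mul_left _ (by omega)
      omega
  rw [hlD] at hz2
  have hDodd : Odd f.natDegree := ⟨i - 1, by omega⟩
  have hT : tord q f.natDegree = q ^ f.natDegree + 1 := if_pos hDodd
  obtain ⟨R, hR⟩ := succ_dvd_tord (q := q) (F := F) hF f.natDegree
  have hjDn : j * f.natDegree ≤ n := by omega
  refine Or.inr (Or.inr ⟨f.natDegree, j, R, by omega, (Nat.le_mul_of_pos_left _ (Nat.pos_of_ne_zero hj)).trans hjDn,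
    fun hlt => ?_, fun hw => ?_, hR.trans (mul_comm _ _), hkill R (by rw [← hR, hT]; exact hz2),
    fun hw t ht => ?_⟩)
  · rcases Nat.lt_or_ge j 2 with h | h
    · omega
    · obtain ⟨t, rfl⟩ : ∃ t, j = t + 2 := ⟨j - 2, by omega⟩
      have : (t + 2) * f.natDegree = f.natDegree + (t + 1) * f.natDegree := by ring
      have : (t + 1) * 2 ≤ (t + 1) * f.natDegree := Nat.mul_le_mul_left _ (by omega)
      omega
  · by_contra h
    have : 2 * f.natDegree ≤ j * f.natDegree := Nat.mul_le_mul_right _ (by omega)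
    omega
  have hj1 : j = 1 := by
    by_contra h
    have : 2 * f.natDegree ≤ j * f.natDegree := Nat.mul_le_mul_right _ (by omega)
    omega
  subst hj1
  rw [pow_one] at heq hfA
  have hcp : A.charpoly = f := by
    refine eq_of_monic_of_dvd_of_natDegree_le hfm A.charpoly_monic (hfd.trans hmc) ?_
    rw [Matrix.charpoly_natDegree_eq_dim, Fintype.card_fin]; omega
  set E := (Fintype.card F ^ f.natDegree - 1) / (Fintype.card F - 1) with hE
  have hzE : z ^ E = 1 := by
    have h := pow_eq_coeff_zero (g := f) hfm rfl (y := z)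
      (by rw [hz, AdjoinRoot.aeval_eq, AdjoinRoot.mk_self]) (pow_one z)
    have h2 : (-1 : F) ^ f.natDegree * f.coeff 0 = 1 := by rw [hw, ← hcp]; exact hdet
    rw [hE, h, h2, map_one]
  have hzR : z ^ R = 1 := by
    set Q := ∑ s ∈ Finset.range f.natDegree, q ^ s with hQ
    have hQ1 : (q - 1) * Q = q ^ f.natDegree - 1 := by
      rw [hQ, Nat.geomSum_eq hq2]
      exact Nat.mul_div_cancel' (by simpa using Nat.sub_dvd_pow_sub_pow q 1 f.natDegree)
    have hEQ : E = R * Q := by
      rw [hE, hF, ← pow_mul]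
      refine Nat.div_eq_of_eq_mul_left ?_ ?_
      · have : 2 ^ 2 ≤ q ^ 2 := Nat.pow_le_pow_left hq2 2
        omega
      · have h3 : q ^ 2 - 1 = (q + 1) * (q - 1) := by rw [← Nat.sq_sub_sq, one_pow]
        have h4 : q ^ (2 * f.natDegree) - 1 = (q ^ f.natDegree + 1) * (q ^ f.natDegree - 1) := by
          rw [mul_comm 2 f.natDegree, pow_mul, ← Nat.sq_sub_sq, one_pow]
        rw [h3, h4, ← hT, hR, ← hQ1]; ring
    have hcop : Q.Coprime (q + 1) := by
      refine Nat.Coprime.symm (Nat.coprime_comm.1 ?_)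
      rw [← ZMod.isUnit_iff_coprime]
      have : ((q : ℕ) : ZMod (q + 1)) = -1 := by
        refine eq_neg_of_add_eq_zero_left ?_
        have h0 : ((q + 1 : ℕ) : ZMod (q + 1)) = 0 := ZMod.natCast_self _
        simpa using h0
      rw [hQ, Nat.cast_sum]
      simp only [Nat.cast_pow, this, neg_one_geom_sum, if_neg (Nat.not_even_iff_odd.2 hDodd)]
      exact isUnit_one
    rw [← orderOf_dvd_iff_pow_eq_one] at hzE hz2 ⊢
    rw [hEQ] at hzE
    rw [← hT, hR, mul_comm] at hz2
    have h5 := Nat.dvd_gcd hzE hz2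
    rwa [Nat.gcd_mul_left, hcop.gcd_eq_one, mul_one] at h5
  have hzi : z ^ ((q + 1) * t) = 1 := by
    obtain ⟨u', hu'⟩ := ht
    obtain ⟨t', ht'⟩ := Nat.gcd_dvd_right n (q + 1)
    have h2 : (q + 1) * t = R * u' * t' := by rw [← hu', mul_right_comm, ← ht']
    rw [h2, mul_assoc, pow_mul, hzR, one_pow]
  simpa using hkill t hzi 0 (by simp)

end Structure

section Elements

variable (hF : Fintype.card F = q ^ 2)

include hF

theorem dg_inj {d e : ℕ} {x y : Matrix (Fin d) (Fin d) F × Matrix (Fin e) (Fin e) F}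
    (h : SimpleFacts.UnitarySemisimple.dg d e x = SimpleFacts.UnitarySemisimple.dg d e y) : x = y := by
  have h1 := (Matrix.reindexAlgEquiv F F (finSumFinEquiv (m := d) (n := e))).injective h
  obtain ⟨e1, -, -, e2⟩ := Matrix.fromBlocks_inj.1 h1
  exact Prod.ext e1 e2

theorem dg_scalar {d e : ℕ} (a : F) :
    (a • 1 : Matrix (Fin (d + e)) (Fin (d + e)) F) =
      SimpleFacts.UnitarySemisimple.dg d e (a • 1, a • 1) := by
  show _ = Matrix.reindexAlgEquiv F F finSumFinEquiv (Matrix.fromBlocks (a • 1) 0 0 (a • 1))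
  rw [show (Matrix.fromBlocks (a • (1 : Matrix (Fin d) (Fin d) F)) 0 0 (a • (1 : Matrix (Fin e) (Fin e) F))) =
    a • 1 by rw [← Matrix.fromBlocks_one, Matrix.fromBlocks_smul, smul_zero, smul_zero], map_smul,
    map_one]

/-- tori -/
theorem exists_torus {p a : ℕ} [Fact p.Prime] [CharP F p] (hq : q = p ^ a) {w : ℕ} (hw : 2 ≤ w) :
    ∃ T : Matrix (Fin w) (Fin w) F, UnitaryConj.adj hF T * T = 1 ∧
      ∀ e, T ^ e = 1 → tord q w ∣ e := by
  classical
  have hq0 : q ≠ 0 := Unitary.q_ne_zero hF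
  have hq2 : 2 ≤ q := HermStd.one_lt_q hF
  have hqw : q ^ 2 ≤ q ^ w := Nat.pow_le_pow_right (by omega) hw
  have hq4 : 2 ^ 2 ≤ q ^ 2 := Nat.pow_le_pow_left hq2 2
  set M := tord q w with hM
  have hMcases : (Odd w ∧ M = q ^ w + 1) ∨ (Even w ∧ M + 1 = q ^ w) := by
    rcases Nat.even_or_odd w with h | h
    · exact Or.inr ⟨h, by rw [hM, tord, if_neg (Nat.not_odd_iff_even.2 h)]; omega⟩
    · exact Or.inl ⟨h, by rw [hM, tord, if_pos h]⟩
  have hqF : (q : F) = 0 := by
    refine eq_zero_of_pow_eq_zero (n := 2) ?_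
    rw [← Nat.cast_pow, ← hF]
    exact FiniteField.cast_card_eq_zero F
  have hMF : (M : F) ≠ 0 := by
    rcases hMcases with ⟨-, h⟩ | ⟨-, h⟩
    · rw [h, Nat.cast_add, Nat.cast_pow, hqF, zero_pow (by omega), zero_add, Nat.cast_one]
      exact one_ne_zero
    · intro h0
      have h1 : ((q ^ w : ℕ) : F) = 1 := by rw [← h, Nat.cast_add, h0, zero_add, Nat.cast_one]
      rw [Nat.cast_pow, hqF, zero_pow (by omega)] at h1
      exact zero_ne_one h1
  have hM0 : 0 < M := Nat.pos_of_ne_zero fun h => hMF (by rw [h, Nat.cast_zero])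
  have hsmall : ∀ i, 0 < i → q ^ i ≤ M → (q : ZMod M) ^ i ≠ 1 := by
    intro i hi hle h
    have h1 : 1 < q ^ i := Nat.one_lt_pow hi.ne' (by omega)
    have h2 : M ∣ q ^ i - 1 := by
      rw [← ZMod.natCast_eq_zero_iff, Nat.cast_sub h1.le, Nat.cast_pow, h, Nat.cast_one, sub_self]
    have := Nat.le_of_dvd (by omega) h2
    omega
  obtain ⟨x, hxm, hxi, hxd, hxn⟩ := SpectrumTools.exists_factor (F := F) hMF
  have hxdvd := SpectrumTools.dvd_X_pow_sub_one dvd_rfl hM0 hxd
  have hx0 : x.coeff 0 ≠ 0 := by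
    intro h
    obtain ⟨y, hy⟩ := hxdvd
    have := congrArg (fun P : F[X] => P.coeff 0) hy
    simp [mul_coeff_zero, h, coeff_X_pow, hM0.ne] at this
  have hdeg : x.natDegree = orderOf ((q : ZMod M) ^ 2) := by rw [hxn, hF, Nat.cast_pow]
  have hti : ∀ {c : F[X]}, c.Monic → c.natDegree = w → c.coeff 0 ≠ 0 →
      SimpleFacts.UnitarySemisimple.ti hF c = c → x ∣ c →
      ∃ T : Matrix (Fin w) (Fin w) F, UnitaryConj.adj hF T * T = 1 ∧ ∀ e, T ^ e = 1 → M ∣ e := by
    intro c hc hcd hc0 hct hxc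
    obtain ⟨T, k, hk, hTk, hT, hTc⟩ :=
      SimpleFacts.UnitarySemisimple.exists_unitary hF c hc hcd hc0 hct
    refine ⟨T, hT, fun e he => ?_⟩
    have hg : T ^ Nat.gcd k e = 1 := pow_gcd_eq_one.2 ⟨hTk, he⟩
    have hgF : (Nat.gcd k e : F) ≠ 0 := fun h => hk (by
      obtain ⟨t, ht⟩ := Nat.gcd_dvd_left k e
      rw [ht, Nat.cast_mul, h, zero_mul])
    exact (SpectrumFactors.dvd_of_pow_eq_one hMF hgF hxi hxd (hTc ▸ hxc) hg).trans
      (Nat.gcd_dvd_right k e)
  rcases hMcases with ⟨hwo, h⟩ | ⟨hwe, h⟩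
  · -- odd
    have hneg : (q : ZMod M) ^ w = -1 := by
      have h0 : ((q ^ w + 1 : ℕ) : ZMod M) = 0 := by rw [← h, ZMod.natCast_self]
      rw [Nat.cast_add, Nat.cast_pow, Nat.cast_one] at h0
      exact eq_neg_of_add_eq_zero_left h0
    have hord : orderOf (q : ZMod M) = 2 * w := by
      rw [orderOf_eq_iff (by omega)]
      refine ⟨by rw [mul_comm, pow_mul, hneg, neg_one_sq], fun i hi hi0 => ?_⟩
      rcases Nat.lt_or_ge w i with hwi | hwi
      · intro hone
        have h1 : (q : ZMod M) ^ (i - w) = -1 := by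
          rw [show i = w + (i - w) by omega, pow_add, hneg, neg_one_mul] at hone
          exact neg_eq_iff_eq_neg.1 hone
        have h2 : M ∣ q ^ (i - w) + 1 := by
          rw [← ZMod.natCast_eq_zero_iff, Nat.cast_add, Nat.cast_pow, h1, Nat.cast_one,
            neg_add_cancel]
        have h3 := Nat.le_of_dvd (by omega) h2
        have h4 : q ^ (i - w) < q ^ w := Nat.pow_lt_pow_right (by omega) (by omega)
        omega
      · refine hsmall i hi0 ?_
        have : q ^ i ≤ q ^ w := Nat.pow_le_pow_right (by omega) hwi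
        omega
    have hxw : x.natDegree = w := by
      rw [hdeg, orderOf_pow' _ two_ne_zero, hord, Nat.gcd_mul_right_left]
      omega
    refine hti hxm hxw hx0 ?_ dvd_rfl
    have : Fact (Irreducible x) := ⟨hxi⟩
    set z := AdjoinRoot.root x with hz
    have hprim := SpectrumSymp.primitive_root hMF hxi hxd
    have hz0 : z ≠ 0 := hprim.ne_zero hM0.ne'
    have hzz : z ^ q ^ w = z⁻¹ := eq_inv_of_mul_eq_one_left (by
      rw [← pow_succ, ← h]; exact hprim.pow_eq_one)
    have hzq : aeval (z⁻¹ ^ q) x = 0 := by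
      obtain ⟨i, hi⟩ := hwo
      have : Module.Finite F (AdjoinRoot x) := (AdjoinRoot.powerBasis hxi.ne_zero).finite
      have h1 := Polynomial.aeval_algHom_apply
        (FiniteField.frobeniusAlgEquivOfAlgebraic F (AdjoinRoot x) ^ (i + 1)) z x
      rw [hz, AdjoinRoot.aeval_eq, AdjoinRoot.mk_self, map_zero, ← hz, AlgEquiv.coe_pow,
        FiniteField.coe_frobeniusAlgEquivOfAlgebraic_iterate, hF] at h1
      simp only [← pow_mul] at h1
      rwa [show 2 * (i + 1) = w + 1 by omega, pow_succ, pow_mul, hzz] at h1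
    have hzbar : aeval z⁻¹ (x.map (HermStd.qHom hF)) = 0 := by
      refine eq_zero_of_pow_eq_zero (n := q) ?_
      rw [aeval_frob hF hq, map_qHom_qHom hF, hzq]
    let : Invertible z⁻¹ := invertibleOfNonzero (inv_ne_zero hz0)
    have hroot : aeval z (SimpleFacts.UnitarySemisimple.ti hF x) = 0 := by
      rw [SimpleFacts.UnitarySemisimple.ti, map_mul]
      have h1 := (eval₂_reverse_eq_zero_iff (algebraMap F (AdjoinRoot x)) z⁻¹
        (x.map (HermStd.qHom hF))).2 hzbar
      rw [invOf_eq_inv, inv_inv] at h1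
      rw [show aeval z (x.map (HermStd.qHom hF)).reverse = 0 from h1, mul_zero]
    rw [AdjoinRoot.aeval_eq] at hroot
    exact (eq_of_monic_of_dvd_of_natDegree_le hxm (SimpleFacts.UnitarySemisimple.ti_monic hF hx0)
      (AdjoinRoot.mk_eq_zero.1 hroot) (SimpleFacts.UnitarySemisimple.natDegree_ti hF hx0).le).symm
      |> fun h' => h'.symm
  · -- even
    have hpow : (q : ZMod M) ^ w = 1 := by
      rw [← Nat.cast_pow, ← h, Nat.cast_add, ZMod.natCast_self, zero_add, Nat.cast_one]
    have hord : orderOf (q : ZMod M) = w := by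
      rw [orderOf_eq_iff (by omega)]
      refine ⟨hpow, fun i hi hi0 => hsmall i hi0 ?_⟩
      have : q ^ i < q ^ w := Nat.pow_lt_pow_right (by omega) hi
      omega
    have hxw : 2 * x.natDegree = w := by
      rw [hdeg, orderOf_pow' _ two_ne_zero, hord, Nat.gcd_eq_right (even_iff_two_dvd.1 hwe)]
      obtain ⟨i, hi⟩ := hwe
      omega
    have htm := SimpleFacts.UnitarySemisimple.ti_monic hF hx0
    refine hti (c := x * SimpleFacts.UnitarySemisimple.ti hF x) (hxm.mul htm) ?_ ?_ ?_ (dvd_mul_right _ _)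
    · rw [hxm.natDegree_mul htm, SimpleFacts.UnitarySemisimple.natDegree_ti hF hx0, ← two_mul, hxw]
    · rw [mul_coeff_zero, SimpleFacts.UnitarySemisimple.ti_coeff_zero hF hxm]
      exact mul_ne_zero hx0 (inv_ne_zero (pow_ne_zero _ hx0))
    · rw [SimpleFacts.UnitarySemisimple.ti_mul, SimpleFacts.UnitarySemisimple.ti_ti hF hxm hx0, mul_comm]

theorem exists_unipotent (p : ℕ) [Fact p.Prime] [CharP F p] {v : ℕ} (hv : 1 ≤ v) :
    ∃ (U : Matrix (Fin v) (Fin v) F) (i : ℕ), UnitaryConj.adj hF U * U = 1 ∧ U.det = 1 ∧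
      (∀ e, U ^ e = 1 → p ^ i ∣ e) ∧ U ^ p ^ i = 1 ∧ v ≤ p ^ i := by
  classical
  have hp : p.Prime := Fact.out
  obtain ⟨B, hnil, hrank⟩ := UnitaryRegular.exists_regular hF hv
  set U := ((B : GL (Fin v) F) : Matrix (Fin v) (Fin v) F) with hU
  have hb : v ≤ p ^ v := (Nat.lt_pow_self hp.one_lt).le
  have hpow : ∀ k, (U - 1) ^ p ^ k = U ^ p ^ k - 1 := fun k => by
    have h : (Polynomial.X - 1 : Polynomial F) ^ p ^ k = Polynomial.X ^ p ^ k - 1 := by
      rw [sub_pow_char_pow, one_pow]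
    simpa using congrArg (Polynomial.aeval U) h
  have hUone : U ^ p ^ v = 1 := by rw [← sub_eq_zero, ← hpow, pow_eq_zero_of_le hb hnil]
  obtain ⟨i, -, hi⟩ := (Nat.dvd_prime_pow hp).1 (orderOf_dvd_of_pow_eq_one hUone)
  refine ⟨U, i, (UnitaryConj.mem_GU_iff hF _).1 B.2, UnitaryRegular.det_unipotent hF hnil,
    fun e he => hi ▸ orderOf_dvd_of_pow_eq_one he, hi ▸ pow_orderOf_eq_one U, ?_⟩
  by_contra hlt
  push Not at hlt
  have h0 : (U - 1) ^ p ^ i = 0 := by
    rw [hpow, sub_eq_zero, ← hi]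
    exact pow_orderOf_eq_one U
  obtain ⟨v₀, b, hbas⟩ := RegularUnipotentConj.exists_chain (U - 1) hnil hrank
  have := b.ne_zero ⟨p ^ i, hlt⟩
  rw [hbas] at this
  exact this (by rw [h0, Matrix.zero_mulVec])

theorem det_pow_succ {w : ℕ} {T : Matrix (Fin w) (Fin w) F} (h : UnitaryConj.adj hF T * T = 1) :
    T.det ^ (q + 1) = 1 := by
  have := congrArg Matrix.det h
  rwa [det_mul, SimpleFacts.UnitarySemisimple.det_adj, det_one, ← pow_succ] at this

variable {n : ℕ}

/-- a torus element, a unipotent and an element of order `r` together -/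
theorem exists_mixed {p a : ℕ} [Fact p.Prime] [CharP F p] (hq : q = p ^ a) (hn : 2 ≤ n)
    {r : ℕ} (hr : r.Prime) (hrq : r ∣ q + 1) (hrn : ¬ r ∣ n) {w j R : ℕ} (hw : 1 ≤ w) (hwn : w < n)
    (hj : j ≤ n - w) (hRp : R.Coprime p) {T : Matrix (Fin w) (Fin w) F}
    (hT : UnitaryConj.adj hF T * T = 1) (hTR : ∀ e, T ^ ((q + 1) * e) = 1 → R ∣ e) :
    ∃ (x : Cfsg.PSU n F q) (i : ℕ), r ∣ orderOf x ∧ R * p ^ i ∣ orderOf x ∧ j ≤ p ^ i := by
  classical
  have hp : p.Prime := Fact.out
  obtain ⟨v, rfl⟩ : ∃ v, n = w + v := ⟨n - w, by omega⟩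
  obtain ⟨U, i, hU, hUd, hUe, hUp, hvi⟩ := exists_unipotent hF p (show 1 ≤ v by omega)
  set y₀ := SimpleFacts.UnitarySemisimple.dg w v (T ^ (q + 1), U) with hy₀
  obtain ⟨y, hy⟩ := exists_su hF (M := y₀) (by
    rw [hy₀, SimpleFacts.UnitarySemisimple.adj_dg hF, ← map_mul, Prod.mk_mul_mk, hU,
      SimpleFacts.UnitarySemisimple.adj_pow, ← Commute.mul_pow, hT, one_pow]
    · exact map_one _
    · rw [commute_iff_eq, hT, mul_eq_one_comm.1 hT]) (by
    rw [hy₀, SimpleFacts.UnitarySemisimple.det_dg, det_pow, det_pow_succ hF hT, hUd, one_mul])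
  have hyo : R * p ^ i ∣ orderOf (y : Cfsg.PSU (w + v) F q) := by
    obtain ⟨c, hc⟩ := (mk_pow_eq_one hF hn y _).1 (pow_orderOf_eq_one (y : Cfsg.PSU (w + v) F q))
    set o := orderOf (y : Cfsg.PSU (w + v) F q)
    rw [hy, hy₀, ← map_pow, dg_scalar hF] at hc
    have h1 := dg_inj hF hc
    simp only [Prod.pow_mk, Prod.mk.injEq] at h1
    have hc1 : c = 1 := by
      have h2 : (U ^ o) ^ p ^ i = 1 := by rw [← pow_mul, mul_comm, pow_mul, hUp, one_pow]
      rw [h1.2, _root_.smul_pow, one_pow] at h2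
      have : Nonempty (Fin v) := ⟨⟨0, by omega⟩⟩
      have h3 : c ^ p ^ i = 1 := smul_left_injective F
        (one_ne_zero (α := Matrix (Fin v) (Fin v) F)) (h2.trans (one_smul _ _).symm)
      rw [← mul_one (p ^ i)] at h3
      simpa using (ExpChar.pow_prime_pow_mul_eq_one_iff p i 1 c).1 h3
    rw [hc1, one_smul, one_smul] at h1
    exact (hRp.pow_right i).mul_dvd_of_dvd_of_dvd (hTR o (by rw [pow_mul]; exact h1.1)) (hUe o h1.2)
  by_cases hry : r ∣ orderOf (y : Cfsg.PSU (w + v) F q)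
  · exact ⟨_, i, hry, hyo, hj.trans (by omega)⟩
  have : Nonempty (Fin w) := ⟨⟨0, by omega⟩⟩
  have : Nonempty (Fin v) := ⟨⟨0, by omega⟩⟩
  set c := SimpleFacts.UnitarySemisimple.dg w v
    ((1 : Matrix (Fin w) (Fin w) F), (0 : Matrix (Fin v) (Fin v) F)) with hcdef
  obtain ⟨h, hh, hcomm⟩ := exists_commute_orderOf hF hn hr hrq hrn (c := c)
    (by rw [hcdef, ← map_mul, Prod.mk_mul_mk, one_mul, mul_zero])
    (by rw [hcdef, SimpleFacts.UnitarySemisimple.adj_dg hF, UnitaryConj.adj_one, adj_zero])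
    (fun h0 => by
      have h1 := dg_inj hF (y := (0, 0)) (h0.trans (by
        show (0 : Matrix (Fin (w + v)) (Fin (w + v)) F) =
          Matrix.reindexAlgEquiv F F finSumFinEquiv (Matrix.fromBlocks 0 0 0 0)
        rw [Matrix.fromBlocks_zero, map_zero]))
      exact one_ne_zero (congrArg Prod.fst h1))
    (fun h1 => by
      have h2 := dg_inj hF (y := 1) (h1.trans (map_one _).symm)
      exact zero_ne_one (congrArg Prod.snd h2))
  have hc := hcomm y (by
    rw [hy, hy₀, hcdef, commute_iff_eq, ← map_mul, ← map_mul, Prod.mk_mul_mk, Prod.mk_mul_mk, one_mul,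
      mul_one, zero_mul, mul_zero])
  refine ⟨(y : Cfsg.PSU (w + v) F q) * h, i, ?_, ?_, hj.trans (by omega)⟩
  all_goals
    rw [hc.orderOf_mul_eq_mul_orderOf_of_coprime
      (by rw [hh]; exact ((hr.coprime_iff_not_dvd).2 hry).symm), hh]
  · exact dvd_mul_left _ _
  · exact hyo.trans (dvd_mul_right _ _)

theorem pPart_dvd (hn : 2 ≤ n) {p a : ℕ} [Fact p.Prime] [CharP F p] (hq : q = p ^ a) (ha : 1 ≤ a)
    {c : ℕ} (hc : n ≤ p ^ c) (y : Cfsg.PSU n F q) :
    p ^ (orderOf y).factorization p ∣ p ^ c := by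
  classical
  have hp : p.Prime := Fact.out
  have : Nonempty (Fin n) := ⟨⟨0, by omega⟩⟩
  set i := (orderOf y).factorization p with hi
  obtain ⟨x, hx⟩ := Spectrum.exists_orderOf_of_dvd y (Nat.ordProj_dvd (orderOf y) p)
  obtain ⟨g, rfl⟩ := QuotientGroup.mk_surjective x
  obtain ⟨c₀, hc₀⟩ := (mk_pow_eq_one hF hn g (p ^ i)).1 (by rw [← hx]; exact pow_orderOf_eq_one _)
  have hc₀0 : c₀ ≠ 0 := fun h => by
    have h1 := congrArg Matrix.det hc₀
    rw [det_pow, show (mat g).det = 1 from (g : SpecialLinearGroup (Fin n) F).2, one_pow, h,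
      zero_smul, det_zero] at h1
    exact one_ne_zero h1
  set G := mat g ^ (Fintype.card F - 1) with hG
  have hG1 : G ^ p ^ i = 1 := by
    rw [hG, pow_right_comm, hc₀, _root_.smul_pow, FiniteField.pow_card_sub_one_eq_one c₀ hc₀0,
      one_pow, one_smul]
  have hpow : ∀ k, (G - 1) ^ p ^ k = G ^ p ^ k - 1 := fun k => by
    rw [sub_pow_char_pow_of_commute (p := p) (h := Commute.one_right G), one_pow]
  have hzero : (G - 1) ^ n = 0 := by
    have hnil : IsNilpotent (G - 1) := ⟨p ^ i, by rw [hpow, hG1, sub_self]⟩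
    have h := Matrix.isNilpotent_charpoly_sub_pow_of_isNilpotent hnil
    have h2 : Matrix.charpoly (G - 1) = X ^ n := by
      have := sub_eq_zero.1 (IsReduced.eq_zero _ h)
      simpa using this
    have h3 := Matrix.aeval_self_charpoly (G - 1)
    rwa [h2, map_pow, aeval_X] at h3
  have h1 : (g : Cfsg.PSU n F q) ^ ((Fintype.card F - 1) * p ^ c) = 1 := by
    rw [mk_pow_eq_one hF hn]
    exact ⟨1, by rw [pow_mul, ← hG, one_smul, ← sub_eq_zero, ← hpow, pow_eq_zero_of_le hc hzero]⟩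
  rw [← orderOf_dvd_iff_pow_eq_one, hx] at h1
  refine Nat.Coprime.dvd_of_dvd_mul_left (Nat.Coprime.pow_left _ ?_) h1
  rw [hp.coprime_iff_not_dvd, hF, hq, ← pow_mul]
  intro h
  have h2 : p ∣ p ^ (a * 2) := dvd_pow_self p (by omega)
  have h3 : p ^ (a * 2) ≥ 1 := Nat.one_le_pow _ _ hp.pos
  exact hp.not_dvd_one (by simpa [Nat.sub_sub_self h3] using Nat.dvd_sub h2 h)

theorem coprime_tord {p a : ℕ} [Fact p.Prime] (hq : q = p ^ a) (ha : 1 ≤ a) {w : ℕ} (hw : 1 ≤ w) :
    (tord q w).Coprime p := by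
  have hp : p.Prime := Fact.out
  have hdvd : p ∣ q ^ w := (hq ▸ dvd_pow_self p (by omega) : p ∣ q).trans (dvd_pow_self q (by omega))
  refine Nat.Coprime.symm (hp.coprime_iff_not_dvd.2 fun h => hp.not_dvd_one ?_)
  unfold tord at h
  split at h
  · exact (Nat.dvd_add_right hdvd).1 h
  · have h1 : 1 ≤ q ^ w := Nat.one_le_pow _ _ (hq ▸ pow_pos hp.pos a)
    have := Nat.dvd_sub hdvd h
    rwa [Nat.sub_sub_self h1] at this

/-- The main dichotomy. -/
theorem dichotomy {p a : ℕ} [Fact p.Prime] [CharP F p] (hq : q = p ^ a) (ha : 1 ≤ a) (hn : 2 ≤ n)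
    {r : ℕ} (hr : r.Prime) (hrq : r ∣ q + 1) (hrn : ¬ r ∣ n) :
    ∃ S : Cfsg.PSU n F q, ∀ W : ℕ, (∀ y : Cfsg.PSU n F q, p ^ (orderOf y).factorization p ∣ W) →
      ∀ x : Cfsg.PSU n F q,
        (∃ x' : Cfsg.PSU n F q, orderOf x ∣ orderOf x' ∧ r ∣ orderOf x') ∨
        orderOf x ∣ Nat.lcm (orderOf S) W := by
  classical
  have hp : p.Prime := Fact.out
  obtain ⟨T, hT, hTe⟩ := exists_torus hF hq hn
  obtain ⟨S, hS⟩ := exists_su hF (M := T ^ (q + 1)) (by
    rw [SimpleFacts.UnitarySemisimple.adj_pow, ← Commute.mul_pow, hT, one_pow]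
    rw [commute_iff_eq, hT, mul_eq_one_comm.1 hT]) (by rw [det_pow, det_pow_succ hF hT])
  refine ⟨(S : Cfsg.PSU n F q), fun W hW x => ?_⟩
  by_cases hrx : r ∣ orderOf x
  · exact Or.inl ⟨x, dvd_rfl, hrx⟩
  obtain ⟨g, rfl⟩ := QuotientGroup.mk_surjective x
  rcases structure_thm hF hn g hq with ⟨c, hcc, hca, hc0, hc1, hcg⟩ | ⟨i, hi⟩ |
    ⟨w, j, R, hw, hwn, hjw, -, hR, hbound, hfull⟩
  · obtain ⟨h, hh, hcomm⟩ := exists_commute_orderOf hF hn hr hrq hrn hcc hca hc0 hc1
    refine Or.inl ⟨(g : Cfsg.PSU n F q) * h, ?_⟩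
    rw [(hcomm g hcg).orderOf_mul_eq_mul_orderOf_of_coprime
      (by rw [hh]; exact ((hr.coprime_iff_not_dvd).2 hrx).symm), hh]
    exact ⟨dvd_mul_right _ _, dvd_mul_left _ _⟩
  · exact Or.inr (Spectrum.dvd_lcm_of_dvd_pow_mul hp (orderOf_pos _).ne'
      (hi.trans (dvd_mul_right _ _)) (hW _))
  · rcases Nat.lt_or_eq_of_le hwn with hlt | rfl
    · obtain ⟨T', hT', hT'e⟩ := exists_torus hF hq hw
      have hRp : R.Coprime p := by
        have := coprime_tord hF hq ha (show 1 ≤ w by omega)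
        rw [hR] at this
        exact this.coprime_dvd_left (dvd_mul_right _ _)
      obtain ⟨x', i, hrx', hRi, hji⟩ := exists_mixed hF hq hn hr hrq hrn (by omega) hlt (hjw hlt)
        hRp hT' (fun e he => by
          have := hT'e _ he
          rw [hR, mul_comm] at this
          exact Nat.dvd_of_mul_dvd_mul_left (by omega) this)
      exact Or.inl ⟨x', (hbound i hji).trans hRi, hrx'⟩
    · refine Or.inr ((hfull rfl (orderOf (S : Cfsg.PSU w F q)) ?_).trans (Nat.dvd_lcm_left _ _))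
      have h1 : R ∣ orderOf S := by
        have h2 : T ^ ((q + 1) * orderOf S) = 1 := by
          rw [pow_mul, ← hS]
          exact congrArg mat (pow_orderOf_eq_one S)
        have := hTe _ h2
        rw [hR, mul_comm] at this
        exact Nat.dvd_of_mul_dvd_mul_left (by omega) this
      exact h1.trans (orderOf_dvd_mul hF hn S)

/-- an element of `r` times the largest `p`-power order -/
theorem exists_pr {p a : ℕ} [Fact p.Prime] [CharP F p] (hq : q = p ^ a) (ha : 1 ≤ a) (hn : 3 ≤ n)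
    {r : ℕ} (hr : r.Prime) (hrq : r ∣ q + 1) (hrn : ¬ r ∣ n) (hnp : ¬ ∃ j : ℕ, n - 1 = p ^ j) :
    ∃ x : Cfsg.PSU n F q, r ∣ orderOf x ∧
      ∀ y : Cfsg.PSU n F q, p ^ (orderOf y).factorization p ∣ orderOf x := by
  have hp : p.Prime := Fact.out
  obtain ⟨c, he⟩ : ∃ c, Nat.clog p n = c + 1 :=
    ⟨Nat.clog p n - 1, by have := Nat.clog_pos hp.one_lt (show 2 ≤ n by omega); omega⟩
  have he1 : n ≤ p ^ (c + 1) := he ▸ Nat.le_pow_clog hp.one_lt _
  have he2 : p ^ c + 2 ≤ n := by
    have h1 := Nat.pow_pred_clog_lt_self hp.one_lt (x := n) (by omega)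
    rw [he] at h1
    simp only [Nat.pred_eq_sub_one, Nat.add_sub_cancel] at h1
    have h2 : n - 1 ≠ p ^ c := fun h => hnp ⟨_, h⟩
    omega
  obtain ⟨x, i, h2, hi, hle⟩ := exists_mixed hF (w := 1) (R := 1) hq (by omega) hr hrq hrn le_rfl
    (by omega) (j := p ^ c + 1) (by omega) (Nat.coprime_one_left _)
    (T := 1) (by rw [UnitaryConj.adj_one, mul_one]) (fun e _ => one_dvd _)
  refine ⟨x, h2, fun y => (pPart_dvd hF (by omega) hq ha he1 y).trans ?_⟩
  rw [one_mul] at hi
  exact (pow_dvd_pow p ((Nat.pow_lt_pow_iff_right hp.one_lt).1 (by omega : p ^ c < p ^ i))).trans hi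

end Elements

end Cfsg.Agent.KnownSimple.SpectrumUnitCube
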